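import Mathlib

/-!
# Arithmetic of the special pairs (helper962)
-/

set_option autoImplicit false

namespace Cfsg.Agent.H962.IdArith

theorem sub_int {q k : ℕ} (hq : 1 ≤ q) : ((q ^ k - 1 : ℕ) : ℤ) = (q : ℤ) ^ k - 1 := by
  rw [Nat.cast_sub (Nat.one_le_pow _ _ hq)]; push_cast; ring

theorem sub_int' {q : ℕ} (hq : 1 ≤ q) : ((q - 1 : ℕ) : ℤ) = (q : ℤ) - 1 := by
  rw [Nat.cast_sub hq]; push_cast; ring

section

variable {q c d : ℕ}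

theorem powers {x : ℤ} (hx : 2 ≤ x) : 1 < x ^ 2 ∧ x ^ 2 < x ^ 3 ∧ x ^ 3 < x ^ 4 ∧ x ^ 4 < x ^ 6 ∧ x ^ 6 < x ^ 8 ∧ x ^ 8 < x ^ 12 := by
  have h1 : (1 : ℤ) < x := by linarith
  refine ⟨one_lt_pow₀ h1 (by norm_num), ?_, ?_, ?_, ?_, ?_⟩ <;> exact pow_lt_pow_right₀ h1 (by norm_num)

/-- `F₄`, `D₄(q²)` -/
theorem F4_D4 (hq : 2 ≤ q) (hc : 1 ≤ c) (hd : d ≤ 4)
    (h : ((q ^ 8 - 1) * ((q ^ 4 - 1) * (q ^ 8 - 1) * (q ^ 12 - 1))) * c =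
      d * ((q ^ 2 - 1) * (q ^ 6 - 1) * (q ^ 8 - 1) * (q ^ 12 - 1))) : False := by
  zify at h
  rw [sub_int (by omega), sub_int (by omega), sub_int (by omega), sub_int (by omega), sub_int (by omega)] at h
  have hq' : (2 : ℤ) ≤ q := by exact_mod_cast hq
  have hc' : (1 : ℤ) ≤ c := by exact_mod_cast hc
  have hd' : (d : ℤ) ≤ 4 := by exact_mod_cast hd
  have hd0 : (0 : ℤ) ≤ d := by positivity
  generalize (q : ℤ) = x at *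
  generalize (c : ℤ) = y at *
  generalize (d : ℤ) = z at *
  obtain ⟨h2, h3, h4, h6, h8, h12⟩ := powers hq'
  have e : (x ^ 2 - 1) * (x ^ 8 - 1) * (x ^ 12 - 1) * ((x ^ 8 - 1) * (x ^ 2 + 1) * y - z * (x ^ 6 - 1)) = 0 := by
    linear_combination h
  have hne : (x ^ 2 - 1) * (x ^ 8 - 1) * (x ^ 12 - 1) ≠ 0 := by
    apply mul_ne_zero (mul_ne_zero _ _) <;> linarith
  have h9 := (mul_eq_zero.1 e).resolve_left hne
  have h10 : (x ^ 8 - 1) * (x ^ 2 + 1) ≤ (x ^ 8 - 1) * (x ^ 2 + 1) * y := by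
    have : 0 ≤ (x ^ 8 - 1) * (x ^ 2 + 1) := mul_nonneg (by linarith) (by linarith)
    nlinarith
  nlinarith

/-- `F₄`, `L₃(q⁴)` -/
theorem F4_L3 (hq : 2 ≤ q) (hd : 1 ≤ d) (hc : c < 73 ∨ c < (q ^ 2 - 1) * (q ^ 6 - 1))
    (h : ((q ^ 8 - 1) * (q ^ 12 - 1)) * c =
      d * ((q ^ 2 - 1) * (q ^ 6 - 1) * (q ^ 8 - 1) * (q ^ 12 - 1))) : False := by
  have h1 : 4 ≤ q ^ 2 := Nat.pow_le_pow_left hq 2
  have h2 : 64 ≤ q ^ 6 := Nat.pow_le_pow_left hq 6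
  have h3 : 256 ≤ q ^ 8 := Nat.pow_le_pow_left hq 8
  have h4 : 4096 ≤ q ^ 12 := Nat.pow_le_pow_left hq 12
  have h5 : 0 < (q ^ 8 - 1) * (q ^ 12 - 1) := Nat.mul_pos (by omega) (by omega)
  have h6 : c = d * ((q ^ 2 - 1) * (q ^ 6 - 1)) := by
    apply Nat.eq_of_mul_eq_mul_left h5
    rw [h]; ring
  have h7 : (q ^ 2 - 1) * (q ^ 6 - 1) ≤ c := by
    rw [h6]; exact Nat.le_mul_of_pos_left _ hd
  have h8 : 3 * 63 ≤ (q ^ 2 - 1) * (q ^ 6 - 1) := Nat.mul_le_mul (by omega) (by omega)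
  omega

/-- `F₄`, `U₄(q²)` -/
theorem F4_U4 (hq : 2 ≤ q) (hd : 1 ≤ d) (hc : c < 73 ∨ c < (q ^ 2 - 1) * (q ^ 6 - 1))
    (h : ((q ^ 4 - 1) * (q ^ 6 + 1) * (q ^ 8 - 1)) * c =
      d * ((q ^ 2 - 1) * (q ^ 6 - 1) * (q ^ 8 - 1) * (q ^ 12 - 1))) : False := by
  have h1 : 4 ≤ q ^ 2 := Nat.pow_le_pow_left hq 2
  have h2 : 64 ≤ q ^ 6 := Nat.pow_le_pow_left hq 6
  have h8 : 3 * 63 ≤ (q ^ 2 - 1) * (q ^ 6 - 1) := Nat.mul_le_mul (by omega) (by omega)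
  have hc' : c < (q ^ 2 - 1) * (q ^ 6 - 1) := by omega
  zify at h hc'
  rw [sub_int (by omega), sub_int (by omega)] at hc'
  rw [sub_int (by omega), sub_int (by omega), sub_int (by omega), sub_int (by omega), sub_int (by omega)] at h
  have hq' : (2 : ℤ) ≤ q := by exact_mod_cast hq
  have hd' : (1 : ℤ) ≤ d := by exact_mod_cast hd
  generalize (q : ℤ) = x at *
  generalize (c : ℤ) = y at *
  generalize (d : ℤ) = z at *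
  obtain ⟨h2, h3, h4, h6, h8, h12⟩ := powers hq'
  have e : (x ^ 2 - 1) * (x ^ 8 - 1) * (x ^ 6 + 1) * ((x ^ 2 + 1) * y - z * (x ^ 6 - 1) ^ 2) = 0 := by
    linear_combination h
  have hne : (x ^ 2 - 1) * (x ^ 8 - 1) * (x ^ 6 + 1) ≠ 0 := by
    apply mul_ne_zero (mul_ne_zero _ _) <;> linarith
  have h9 := (mul_eq_zero.1 e).resolve_left hne
  have h10 : (x ^ 2 + 1) * y < (x ^ 2 + 1) * ((x ^ 2 - 1) * (x ^ 6 - 1)) := by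
    apply mul_lt_mul_of_pos_left hc'; linarith
  have h11 : (x ^ 2 + 1) * ((x ^ 2 - 1) * (x ^ 6 - 1)) = (x ^ 4 - 1) * (x ^ 6 - 1) := by ring
  have h12 : (x ^ 4 - 1) * (x ^ 6 - 1) ≤ (x ^ 6 - 1) * (x ^ 6 - 1) := by
    apply mul_le_mul_of_nonneg_right <;> linarith
  have h13 : (x ^ 6 - 1) * (x ^ 6 - 1) ≤ z * (x ^ 6 - 1) ^ 2 := by
    have : 0 ≤ (x ^ 6 - 1) ^ 2 := sq_nonneg _
    nlinarith
  linarith

/-- `G₂`, `C₂` -/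
theorem G2_C2 (hq : 3 ≤ q) (hc : 1 ≤ c) (hd : d ≤ 2)
    (h : ((q ^ 3 - 1) * (q ^ 6 - 1)) * c = d * ((q ^ 2 - 1) * (q ^ 6 - 1))) : False := by
  have h1 : 729 ≤ q ^ 6 := Nat.pow_le_pow_left hq 6
  have h2 : 9 ≤ q ^ 2 := Nat.pow_le_pow_left hq 2
  have h3 : 3 * q ^ 2 ≤ q ^ 3 := by
    rw [pow_succ' q 2]; exact Nat.mul_le_mul_right _ hq
  have h4 : (q ^ 3 - 1) * c = d * (q ^ 2 - 1) := by
    apply Nat.eq_of_mul_eq_mul_left (show 0 < q ^ 6 - 1 by omega)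
    calc (q ^ 6 - 1) * ((q ^ 3 - 1) * c) = ((q ^ 3 - 1) * (q ^ 6 - 1)) * c := by ring
      _ = _ := by rw [h]; ring
  have h5 : q ^ 3 - 1 ≤ (q ^ 3 - 1) * c := Nat.le_mul_of_pos_right _ hc
  have h6 : d * (q ^ 2 - 1) ≤ 2 * (q ^ 2 - 1) := Nat.mul_le_mul_right _ hd
  omega

/-- `G₂(q)`, `³D₄(t)`, `q = t²` -/
theorem G2_TD4 {t : ℕ} (ht : 2 ≤ t)
    (h : ((t ^ 2 - 1) * (t ^ 6 - 1) * (t ^ 8 + t ^ 4 + 1)) * c = (t ^ 4 - 1) * (t ^ 12 - 1)) : False := by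
  zify at h
  rw [sub_int (by omega), sub_int (by omega), sub_int (by omega), sub_int (by omega)] at h
  have hq' : (2 : ℤ) ≤ t := by exact_mod_cast ht
  have hc0 : (0 : ℤ) ≤ c := by positivity
  have hc2 : (c : ℤ) ≤ 0 ∨ (c : ℤ) = 1 ∨ 2 ≤ (c : ℤ) := by omega
  generalize (t : ℤ) = x at *
  generalize (c : ℤ) = y at *
  obtain ⟨h2, h3, h4, h6, h8, h12⟩ := powers hq'
  have e : (x ^ 2 - 1) ^ 2 * (x ^ 8 + x ^ 4 + 1) * ((x ^ 4 + x ^ 2 + 1) * y - (x ^ 2 + 1) ^ 2) = 0 := by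
    linear_combination h
  have hne : (x ^ 2 - 1) ^ 2 * (x ^ 8 + x ^ 4 + 1) ≠ 0 := by
    apply mul_ne_zero (pow_ne_zero _ _) <;> linarith
  have h9 := (mul_eq_zero.1 e).resolve_left hne
  rcases hc2 with h | h | h
  · nlinarith
  · subst h; nlinarith
  · nlinarith

/-- `G₂(q)`, `²F₄(t)`, `q = t²` -/
theorem G2_TF4 {t : ℕ} (ht : 8 ≤ t) (hc : c < 73)
    (h : ((t - 1) * (t ^ 3 + 1) * (t ^ 4 - 1) * (t ^ 6 + 1)) * c = (t ^ 4 - 1) * (t ^ 12 - 1)) : False := by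
  zify at h
  rw [sub_int (by omega), sub_int (by omega), sub_int' (by omega)] at h
  have hq' : (8 : ℤ) ≤ t := by exact_mod_cast ht
  have hc2 : (c : ℤ) < 73 := by exact_mod_cast hc
  generalize (t : ℤ) = x at *
  generalize (c : ℤ) = y at *
  obtain ⟨h2, h3, h4, h6, h8, h12⟩ := powers (show 2 ≤ x by linarith)
  have e : (x - 1) * (x ^ 3 + 1) * (x ^ 4 - 1) * (x ^ 6 + 1) * (y - (x ^ 2 + x + 1)) = 0 := by
    linear_combination h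
  have hne : (x - 1) * (x ^ 3 + 1) * (x ^ 4 - 1) * (x ^ 6 + 1) ≠ 0 := by
    apply mul_ne_zero (mul_ne_zero (mul_ne_zero _ _) _) <;> linarith
  have h9 := (mul_eq_zero.1 e).resolve_left hne
  nlinarith

/-- `³D₄(q)`, `C₂(q³)` -/
theorem TD4_C2 (hq : 2 ≤ q) (hc : 1 ≤ c) (hd : d ≤ 2)
    (h : ((q ^ 6 - 1) * (q ^ 12 - 1)) * c = d * ((q ^ 2 - 1) * (q ^ 6 - 1) * (q ^ 8 + q ^ 4 + 1))) : False := by
  zify at h
  rw [sub_int (by omega), sub_int (by omega), sub_int (by omega)] at h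
  have hq' : (2 : ℤ) ≤ q := by exact_mod_cast hq
  have hc' : (1 : ℤ) ≤ c := by exact_mod_cast hc
  have hd' : (d : ℤ) ≤ 2 := by exact_mod_cast hd
  generalize (q : ℤ) = x at *
  generalize (c : ℤ) = y at *
  generalize (d : ℤ) = z at *
  obtain ⟨h2, h3, h4, h6, h8, h12⟩ := powers hq'
  have e : (x ^ 2 - 1) * (x ^ 6 - 1) * (x ^ 8 + x ^ 4 + 1) * ((x ^ 2 + 1) * y - z) = 0 := by
    linear_combination h
  have hne : (x ^ 2 - 1) * (x ^ 6 - 1) * (x ^ 8 + x ^ 4 + 1) ≠ 0 := by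
    apply mul_ne_zero (mul_ne_zero _ _) <;> linarith
  have h9 := (mul_eq_zero.1 e).resolve_left hne
  nlinarith

/-- `³D₄(q)`, `G₂(q²)` -/
theorem TD4_G2 (hq : 2 ≤ q) (hc : 1 ≤ c)
    (h : ((q ^ 4 - 1) * (q ^ 12 - 1)) * c = (q ^ 2 - 1) * (q ^ 6 - 1) * (q ^ 8 + q ^ 4 + 1)) : False := by
  zify at h
  rw [sub_int (by omega), sub_int (by omega), sub_int (by omega), sub_int (by omega)] at h
  have hq' : (2 : ℤ) ≤ q := by exact_mod_cast hq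
  have hc' : (1 : ℤ) ≤ c := by exact_mod_cast hc
  generalize (q : ℤ) = x at *
  generalize (c : ℤ) = y at *
  obtain ⟨h2, h3, h4, h6, h8, h12⟩ := powers hq'
  have e : (x ^ 2 - 1) ^ 2 * (x ^ 8 + x ^ 4 + 1) * ((x ^ 2 + 1) ^ 2 * y - (x ^ 4 + x ^ 2 + 1)) = 0 := by
    linear_combination h
  have hne : (x ^ 2 - 1) ^ 2 * (x ^ 8 + x ^ 4 + 1) ≠ 0 := by
    apply mul_ne_zero (pow_ne_zero _ _) <;> linarith
  have h9 := (mul_eq_zero.1 e).resolve_left hne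
  have h10 : (x ^ 2 + 1) ^ 2 ≤ (x ^ 2 + 1) ^ 2 * y := by
    have : 0 ≤ (x ^ 2 + 1) ^ 2 := sq_nonneg _
    nlinarith
  nlinarith

/-- `³D₄(q)`, `²F₄(q)` -/
theorem TD4_TF4 (hq : 2 ≤ q)
    (h : ((q - 1) * (q ^ 3 + 1) * (q ^ 4 - 1) * (q ^ 6 + 1)) * c = (q ^ 2 - 1) * (q ^ 6 - 1) * (q ^ 8 + q ^ 4 + 1)) :
    False := by
  zify at h
  rw [sub_int (by omega), sub_int (by omega), sub_int (by omega), sub_int' (by omega)] at h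
  have hq' : (2 : ℤ) ≤ q := by exact_mod_cast hq
  generalize (q : ℤ) = x at *
  generalize (c : ℤ) = y at *
  obtain ⟨h2, h3, h4, h6, h8, h12⟩ := powers hq'
  have e : (x - 1) * (x ^ 2 - 1) * (x ^ 3 + 1) * (x ^ 6 + 1) *
      ((x ^ 2 + 1) ^ 2 * y - (x ^ 2 + x + 1) * (x ^ 4 + x ^ 2 + 1)) = 0 := by
    have h' : (x ^ 4 - 1) * (((x - 1) * (x ^ 3 + 1) * (x ^ 4 - 1) * (x ^ 6 + 1)) * y) =
      (x ^ 4 - 1) * ((x ^ 2 - 1) * (x ^ 6 - 1) * (x ^ 8 + x ^ 4 + 1)) := by rw [h]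
    have h'' : (x - 1) * (x + 1) * ((x - 1) * (x ^ 2 - 1) * (x ^ 3 + 1) * (x ^ 6 + 1) *
      ((x ^ 2 + 1) ^ 2 * y - (x ^ 2 + x + 1) * (x ^ 4 + x ^ 2 + 1))) = 0 := by
      linear_combination h'
    refine (mul_eq_zero.1 h'').resolve_left (mul_ne_zero ?_ ?_) <;> linarith
  have hne : (x - 1) * (x ^ 2 - 1) * (x ^ 3 + 1) * (x ^ 6 + 1) ≠ 0 := by
    apply mul_ne_zero (mul_ne_zero (mul_ne_zero _ _) _) <;> linarith
  have h9 := (mul_eq_zero.1 e).resolve_left hne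
  -- `x² + 1` divides `x`
  have h10 : x ^ 2 + 1 ∣ x := by
    have : x = (x ^ 2 + 1) * ((x ^ 2 + 1) * y - (x ^ 2 * (x ^ 2 + 1) + 1 + x ^ 3)) := by
      linear_combination (-1 : ℤ) * h9
    exact ⟨_, this⟩
  have h11 := Int.le_of_dvd (by linarith) h10
  nlinarith

end

end Cfsg.Agent.H962.IdArith
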