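import Mathlib
import Cfsg.Agent.H902.SameD
import Cfsg.Agent.H962.IdArith

/-!
# Identification in equal characteristic of a simple factor of an exceptional order (helper962)

`same_id` : `|X(p^e)| * c * p^a = |Y(p^f)|`, `Y` exceptional, `c` small: then `X = Y` and `e = f`.
-/

set_option autoImplicit false

namespace Cfsg.Agent.H962.IdSame

open Cfsg.Agent.H902 Cfsg.Agent.H902.Art Cfsg.Agent.Lib.Zsigmondy Cfsg.Agent.H962.IdArith

/-- the exceptional shapes -/
inductive IsExc : Sh → Prop
  | G2 : IsExc .G2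
  | F4 : IsExc .F4
  | E6 : IsExc .E6
  | E7 : IsExc .E7
  | E8 : IsExc .E8
  | TE6 : IsExc .TE6
  | TD4 : IsExc .TD4

theorem IsExc.DM_ge {Y : Sh} (h : IsExc Y) : 6 ≤ DM Y := by
  cases h <;> decide

theorem IsExc.DM_eq {Y : Sh} (h : IsExc Y) : Y = .G2 ∨ 12 ≤ DM Y := by
  cases h
  · exact Or.inl rfl
  all_goals exact Or.inr (by decide)

/-! ### the orders of small shapes over extension fields -/

theorem num_L3 (x : ℕ) : num (.L 3) (x ^ 4) = (x ^ 8 - 1) * (x ^ 12 - 1) := by
  show ∏ i ∈ Finset.range 2, ((x ^ 4) ^ (i + 2) - 1) = _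
  rw [Finset.prod_range_succ, Finset.prod_range_one, ← pow_mul, ← pow_mul]

theorem num_U4 (x : ℕ) : num (.U 4) (x ^ 2) = (x ^ 4 - 1) * (x ^ 6 + 1) * (x ^ 8 - 1) := by
  show ∏ i ∈ Finset.range 3, (if Even i then (x ^ 2) ^ (i + 2) - 1 else (x ^ 2) ^ (i + 2) + 1) = _
  rw [Finset.prod_range_succ, Finset.prod_range_succ, Finset.prod_range_one, if_pos (by decide),
    if_neg (by decide), if_pos (by decide), ← pow_mul, ← pow_mul, ← pow_mul]

theorem num_D4 (x : ℕ) : num (.D 4) (x ^ 2) = (x ^ 8 - 1) * ((x ^ 4 - 1) * (x ^ 8 - 1) * (x ^ 12 - 1)) := by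
  show ((x ^ 2) ^ 4 - 1) * ∏ i ∈ Finset.range 3, ((x ^ 2) ^ (2 * (i + 1)) - 1) = _
  rw [Finset.prod_range_succ, Finset.prod_range_succ, Finset.prod_range_one, ← pow_mul, ← pow_mul, ← pow_mul]

theorem num_G2 (x : ℕ) : num .G2 (x ^ 2) = (x ^ 4 - 1) * (x ^ 12 - 1) := by
  show ((x ^ 2) ^ 2 - 1) * ((x ^ 2) ^ 6 - 1) = _
  rw [← pow_mul, ← pow_mul]

theorem num_C2 (x : ℕ) : num (.C 2) x = (x ^ 2 - 1) * (x ^ 4 - 1) := by
  show ∏ i ∈ Finset.range 2, (x ^ (2 * (i + 1)) - 1) = _
  rw [Finset.prod_range_succ, Finset.prod_range_one]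

section main

variable {X Y : Sh} {p e f M N c a : ℕ}

theorem six_le (hY : Real Y p f M) (hE : IsExc Y) : 6 ≤ f * DM Y := by
  have h1 := hE.DM_ge
  have h2 := hY.hf
  nlinarith

/-- `q = 2` is excluded for `G₂` -/
theorem not_two_six (hY : Real Y p f M) (hE : IsExc Y) : ¬ (p = 2 ∧ f * DM Y = 6) := by
  rintro ⟨rfl, h6⟩
  have hf := hY.hf
  rcases hE.DM_eq with rfl | h
  · have h1 : f = 1 := by
      have h2 : f * 6 = 6 := h6
      omega
    subst h1
    have h3 : 3 ≤ 2 ^ 1 := hY.ok
    omega
  · nlinarith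

/-- primes of the two orders -/
theorem dvd_of (hYM : Real Y p f M) (heq : N * c * p ^ a = M) {r : ℕ} (hr : r.Prime) (hrp : r ≠ p) (hd : r ∣ M)
    (hc : ¬ r ∣ c) : r ∣ N := by
  rw [← heq] at hd
  rcases (hr.dvd_mul).1 hd with h | h
  · exact ((hr.dvd_mul).1 h).resolve_right hc
  · exact absurd ((Nat.prime_dvd_prime_iff_eq hr hYM.hp).1 (hr.dvd_of_dvd_pow h)) hrp

theorem N_dvd (heq : N * c * p ^ a = M) : N ∣ M := ⟨c * p ^ a, by rw [← heq, mul_assoc]⟩

/-- `f DM Y ≤ e DM X` -/
theorem DM_le₁ (hX : Real X p e N) (hY : Real Y p f M) (hE : IsExc Y) (heq : N * c * p ^ a = M)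
    (hcr : ∀ r, r.Prime → orderOf (p : ZMod r) = f * DM Y → ¬ r ∣ c) : f * DM Y ≤ e * DM X := by
  have h6 := six_le hY hE
  obtain ⟨r, hr, ho⟩ := exists_prime_orderOf hY.hp.two_le (show 2 ≤ f * DM Y by omega) (fun h => by omega)
    (not_two_six hY hE)
  have hrp : r ≠ p := ne_of_order hr (show 1 ≤ f * DM Y by omega) ho
  have hd := dvd_of hY heq hr hrp (hY.dvd_of_order_DM hr ho (by omega)) (hcr r hr ho)
  have hg := hX.hf
  have hge := Art.DM_ge hX
  have hlt := BM_lt hX
  rcases hX.order_cases hr hrp hd with h | ⟨e', he, heB, h⟩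
  · rw [ho] at h
    exact Nat.le_of_dvd (Nat.mul_pos hg (by omega)) h
  · rw [ho] at h
    exact (Nat.le_of_dvd (Nat.mul_pos hg he) h).trans (Nat.mul_le_mul_left _ (by omega))

/-- `e DM X ≤ f DM Y` -/
theorem DM_le₂ (hX : Real X p e N) (hY : Real Y p f M) (hE : IsExc Y) (heq : N * c * p ^ a = M)
    (h1 : f * DM Y ≤ e * DM X) : e * DM X ≤ f * DM Y := by
  have h6 := six_le hY hE
  by_cases h2 : p = 2 ∧ e * DM X = 6
  · omega
  obtain ⟨r, hr, ho⟩ := exists_prime_orderOf hX.hp.two_le (show 2 ≤ e * DM X by omega) (fun h => by omega) h2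
  have hrp : r ≠ p := ne_of_order hr (show 1 ≤ e * DM X by omega) ho
  have hd : r ∣ M := (hX.dvd_of_order_DM hr ho (by omega)).trans (N_dvd heq)
  have hg := hY.hf
  have hge := Art.DM_ge hY
  have hlt := BM_lt hY
  rcases hY.order_cases hr hrp hd with h | ⟨e', he, heB, h⟩
  · rw [ho] at h
    exact Nat.le_of_dvd (Nat.mul_pos hg (by omega)) h
  · rw [ho] at h
    exact (Nat.le_of_dvd (Nat.mul_pos hg he) h).trans (Nat.mul_le_mul_left _ (by omega))

theorem c_ne (hY : Real Y p f M) (heq : N * c * p ^ a = M) : c ≠ 0 := by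
  rintro rfl
  apply hY.M_ne
  rw [← heq]; ring

/-- the `p`-parts -/
theorem exps (hX : Real X p e N) (hY : Real Y p f M) (heq : N * c * p ^ a = M) :
    e * NN X + c.factorization p + a = f * NN Y := by
  rw [P_prime_exp hX, P_prime_exp hY, ← heq,
    Nat.factorization_mul (Nat.mul_ne_zero hX.M_ne (c_ne hY heq)) (pow_ne_zero _ hY.hp.ne_zero),
    Nat.factorization_mul hX.M_ne (c_ne hY heq), hY.hp.factorization_pow, Finsupp.add_apply, Finsupp.add_apply,
    Finsupp.single_eq_same]

/-- `kap X + s = kap Y`, and `p ∤ c` -/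
theorem kap_eq (hX : Real X p e N) (hY : Real Y p f M) (heq : N * c * p ^ a = M)
    (hD : e * DM X = f * DM Y) (hcp : 4 * c.factorization p < f * DM Y) {s : ℕ} (hs : 4 * a = f * DM Y * s) :
    kap X + s = kap Y ∧ c.factorization p = 0 := by
  have h1 := exps hX hY heq
  have h2 := four_NN hX
  have h3 := four_NN hY
  have h4 : f * DM Y * kap X + 4 * c.factorization p + f * DM Y * s = f * DM Y * kap Y := by
    have e1 : 4 * (e * NN X) = f * DM Y * kap X := by
      rw [← hD, mul_assoc, ← h2]; ring
    have e2 : 4 * (f * NN Y) = f * DM Y * kap Y := by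
      rw [mul_assoc, ← h3]; ring
    omega
  generalize f * DM Y = E at *
  have h5 : kap X + s ≤ kap Y := by
    by_contra hcon
    have h6 : E * (kap Y + 1) ≤ E * (kap X + s) := Nat.mul_le_mul_left _ (by omega)
    have h7 : E * (kap X + s) = E * kap X + E * s := by ring
    have h8 : E * (kap Y + 1) = E * kap Y + E := by ring
    omega
  have h6 : kap X + s = kap Y := by
    by_contra hcon
    have h6 : E * (kap X + s + 1) ≤ E * kap Y := Nat.mul_le_mul_left _ (by omega)
    have h7 : E * (kap X + s + 1) = E * kap X + E * s + E := by ring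
    omega
  refine ⟨h6, ?_⟩
  have h7 : E * kap Y = E * kap X + E * s := by rw [← h6]; ring
  omega

/-- The second exponents, `Y` with two large exponents. -/
theorem BM_eq (hX : Real X p e N) (hY : Real Y p f M) (heq : N * c * p ^ a = M)
    (hD : e * DM X = f * DM Y) (hB : DM Y < 2 * BM Y) (h8 : 8 ≤ BM Y)
    (hcr : ∀ r, r.Prime → orderOf (p : ZMod r) = f * BM Y → ¬ r ∣ c) :
    DM X < 2 * BM X ∧ e * BM X = f * BM Y := by
  have hf := hY.hf
  have hg := hX.hf
  have hgeX := Art.DM_ge hX
  have hgeY := Art.DM_ge hY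
  have hltX := BM_lt hX
  have hltY := BM_lt hY
  have h8' : 8 ≤ f * BM Y := by nlinarith
  have hle : f * BM Y ≤ e * BM X := by
    obtain ⟨r, hr, ho⟩ := exists_prime_orderOf hY.hp.two_le (show 2 ≤ f * BM Y by omega) (fun h => by omega)
      (fun h => by omega)
    have hrp : r ≠ p := ne_of_order hr (show 1 ≤ f * BM Y by omega) ho
    have hd := dvd_of hY heq hr hrp (hY.dvd_of_order_BM hr hB ho (by omega)) (hcr r hr ho)
    rcases hX.order_cases hr hrp hd with h | ⟨e', he, heB, h⟩
    · exfalso
      rw [ho, hD] at h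
      obtain ⟨c', hc⟩ := Nat.dvd_of_mul_dvd_mul_left hf h
      have hc2 : c' < 2 := by
        by_contra hcon
        have : BM Y * 2 ≤ BM Y * c' := Nat.mul_le_mul_left _ (by omega)
        omega
      have hc0 : c' ≠ 0 := by rintro rfl; omega
      have hc1 : c' = 1 := by omega
      rw [hc1] at hc
      omega
    · rw [ho] at h
      exact (Nat.le_of_dvd (Nat.mul_pos hg he) h).trans (Nat.mul_le_mul_left _ heB)
  have hBX : DM X < 2 * BM X := by
    have h5 : e * DM X < e * (2 * BM X) := by
      calc e * DM X = f * DM Y := hD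
        _ < f * (2 * BM Y) := Nat.mul_lt_mul_of_pos_left hB hf
        _ = 2 * (f * BM Y) := by ring
        _ ≤ 2 * (e * BM X) := Nat.mul_le_mul_left _ hle
        _ = e * (2 * BM X) := by ring
    exact Nat.lt_of_mul_lt_mul_left h5
  refine ⟨hBX, le_antisymm ?_ hle⟩
  obtain ⟨r, hr, ho⟩ := exists_prime_orderOf hX.hp.two_le (show 2 ≤ e * BM X by omega) (fun h => by omega)
    (fun h => by omega)
  have hrp : r ≠ p := ne_of_order hr (show 1 ≤ e * BM X by omega) ho
  have hd : r ∣ M := (hX.dvd_of_order_BM hr hBX ho (by omega)).trans (N_dvd heq)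
  rcases hY.order_cases hr hrp hd with h | ⟨e', he, heB, h⟩
  · exfalso
    rw [ho, ← hD] at h
    obtain ⟨c', hc⟩ := Nat.dvd_of_mul_dvd_mul_left hg h
    have hc2 : c' < 2 := by
      by_contra hcon
      have : BM X * 2 ≤ BM X * c' := Nat.mul_le_mul_left _ (by omega)
      omega
    have hc0 : c' ≠ 0 := by rintro rfl; omega
    have hc1 : c' = 1 := by omega
    rw [hc1] at hc
    omega
  · rw [ho] at h
    exact (Nat.le_of_dvd (Nat.mul_pos hf he) h).trans (Nat.mul_le_mul_left _ heB)

/-- `Y` with one large exponent: so has `X`. -/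
theorem typB_of (hX : Real X p e N) (hY : Real Y p f M) (heq : N * c * p ^ a = M)
    (hD : e * DM X = f * DM Y) (hB : ¬ DM Y < 2 * BM Y) (hE : IsExc Y) : ¬ DM X < 2 * BM X := by
  intro hBX
  have hf := hY.hf
  have hg := hX.hf
  have h6 := six_le hY hE
  have hlt : f * DM Y < 2 * (e * BM X) := by
    calc f * DM Y = e * DM X := hD.symm
      _ < e * (2 * BM X) := Nat.mul_lt_mul_of_pos_left hBX hg
      _ = 2 * (e * BM X) := by ring
  have h2 : ¬ (p = 2 ∧ e * BM X = 6) := by
    rintro ⟨rfl, h⟩
    have hn := not_two_six hY hE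
    -- `f DM Y < 12`
    rcases hE.DM_eq with rfl | h12
    · have h7 : f * 6 < 12 := by
        have : f * DM .G2 = f * 6 := rfl
        omega
      exact hn ⟨rfl, by show f * 6 = 6; omega⟩
    · nlinarith
  obtain ⟨r, hr, ho⟩ := exists_prime_orderOf hX.hp.two_le (show 2 ≤ e * BM X by omega) (fun h => by omega) h2
  have hrp : r ≠ p := ne_of_order hr (show 1 ≤ e * BM X by omega) ho
  have hd : r ∣ M := (hX.dvd_of_order_BM hr hBX ho (by omega)).trans (N_dvd heq)
  have hltX := BM_lt hX
  rcases hY.order_cases hr hrp hd with h | ⟨e', he, heB, h⟩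
  · rw [ho, ← hD] at h
    obtain ⟨c', hc⟩ := Nat.dvd_of_mul_dvd_mul_left hg h
    have hc2 : c' < 2 := by
      by_contra hcon
      have : BM X * 2 ≤ BM X * c' := Nat.mul_le_mul_left _ (by omega)
      omega
    have hge := Art.DM_ge hX
    have hc0 : c' ≠ 0 := by rintro rfl; omega
    have hc1 : c' = 1 := by omega
    rw [hc1] at hc
    omega
  · rw [ho] at h
    have h7 := (Nat.le_of_dvd (Nat.mul_pos hf he) h).trans (Nat.mul_le_mul_left _ heB)
    have h8 : 2 * (f * BM Y) ≤ f * DM Y := by
      calc 2 * (f * BM Y) = f * (2 * BM Y) := by ring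
        _ ≤ f * DM Y := Nat.mul_le_mul_left _ (by omega)
    omega

/-- the equation for the parts prime to `p` -/
theorem cross_eq (hX : Real X p e N) (hY : Real Y p f M) (heq : N * c * p ^ a = M) (hc : c.factorization p = 0) :
    dd Y (p ^ f) * (num X (p ^ e) * c) = dd X (p ^ e) * num Y (p ^ f) := by
  have h1 := exps hX hY heq
  rw [hc, add_zero] at h1
  have h2 := hX.eq
  have h3 := hY.eq
  have h4 : 0 < (p ^ f) ^ NN Y := pow_pos (pow_pos hY.hp.pos _) _
  apply Nat.eq_of_mul_eq_mul_left h4
  have h5 : (p ^ f) ^ NN Y = (p ^ e) ^ NN X * p ^ a := by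
    rw [← pow_mul, ← pow_mul, ← pow_add, h1]
  calc (p ^ f) ^ NN Y * (dd Y (p ^ f) * (num X (p ^ e) * c))
      = dd Y (p ^ f) * p ^ a * c * ((p ^ e) ^ NN X * num X (p ^ e)) := by rw [h5]; ring
    _ = dd Y (p ^ f) * p ^ a * c * (dd X (p ^ e) * N) := by rw [h2]
    _ = dd X (p ^ e) * (dd Y (p ^ f) * (N * c * p ^ a)) := by ring
    _ = dd X (p ^ e) * ((p ^ f) ^ NN Y * num Y (p ^ f)) := by rw [heq, h3]
    _ = _ := by ring

/-- the cross ratio of the exponents -/
theorem ratio (hX : Real X p e N) (hY : Real Y p f M) (hD : e * DM X = f * DM Y) (hB : e * BM X = f * BM Y) :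
    DM X * (DM Y - BM Y) = DM Y * (DM X - BM X) := by
  have hf := hY.hf
  have hg := hX.hf
  have hdd : e * (DM X - BM X) = f * (DM Y - BM Y) := by
    rw [Nat.mul_sub, Nat.mul_sub, hD, hB]
  have h7 : f * e * (DM X * (DM Y - BM Y)) = f * e * (DM Y * (DM X - BM X)) := by
    calc f * e * (DM X * (DM Y - BM Y)) = (e * DM X) * (f * (DM Y - BM Y)) := by ring
      _ = (f * DM Y) * (e * (DM X - BM X)) := by rw [hD, hdd]
      _ = _ := by ring
  exact Nat.eq_of_mul_eq_mul_left (Nat.mul_pos hf hg) h7

/-- primes of index `8` of `E₆`, `²E₆` -/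
theorem dvd_eight (hY : Real Y p f M) (hE : Y = .E6 ∨ Y = .TE6) {r : ℕ} (hr : r.Prime)
    (ho : orderOf (p : ZMod r) = f * 8) : r ∣ M := by
  have hf := hY.hf
  refine hY.dvd_of_dvd_num hr (hY.not_dvd_dd_of_order hr ho (by omega) (by norm_num) (fun _ => by norm_num)) ?_
  have h1 : r ∣ (p ^ f) ^ 8 - 1 := (dvd_iff hY.hp 8).2 (by rw [ho])
  rcases hE with rfl | rfl
  · show r ∣ ((p ^ f) ^ 2 - 1) * ((p ^ f) ^ 5 - 1) * ((p ^ f) ^ 6 - 1) * ((p ^ f) ^ 8 - 1) * ((p ^ f) ^ 9 - 1) *
      ((p ^ f) ^ 12 - 1)
    exact (h1.mul_left _).mul_right _ |>.mul_right _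
  · show r ∣ ((p ^ f) ^ 2 - 1) * ((p ^ f) ^ 5 + 1) * ((p ^ f) ^ 6 - 1) * ((p ^ f) ^ 8 - 1) * ((p ^ f) ^ 9 + 1) *
      ((p ^ f) ^ 12 - 1)
    exact (h1.mul_left _).mul_right _ |>.mul_right _

/-- the index `8` kills a shape -/
theorem kill_eight (hX : Real X p e N) (hY : Real Y p f M) (hE : Y = .E6 ∨ Y = .TE6) (heq : N * c * p ^ a = M)
    (hcr : ∀ r, r.Prime → orderOf (p : ZMod r) = f * 8 → ¬ r ∣ c)
    (h : ¬ f * 8 ∣ e * DM X ∧ ∀ e', 1 ≤ e' → e' ≤ BM X → ¬ f * 8 ∣ e * e') : False := by
  have hf := hY.hf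
  obtain ⟨r, hr, ho⟩ := exists_prime_orderOf hY.hp.two_le (show 2 ≤ f * 8 by omega) (fun h => by omega)
    (fun h => by omega)
  have hrp : r ≠ p := ne_of_order hr (show 1 ≤ f * 8 by omega) ho
  have hd := dvd_of hY heq hr hrp (dvd_eight hY hE hr ho) (hcr r hr ho)
  rcases hX.order_cases hr hrp hd with h' | ⟨e', he, heB, h'⟩
  · rw [ho] at h'; exact h.1 h'
  · rw [ho] at h'; exact h.2 e' he heB h'

/-- the index `8 e` of `²E₆(p^e)` kills `F₄` -/
theorem kill_TE6 (hX : Real .TE6 p e N) (hY : Real .F4 p f M) (heq : N * c * p ^ a = M) (h : 3 * e = 2 * f) :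
    False := by
  have hf := hY.hf
  have hg := hX.hf
  obtain ⟨r, hr, ho⟩ := exists_prime_orderOf hX.hp.two_le (show 2 ≤ e * 8 by omega) (fun h => by omega)
    (fun h => by omega)
  have hrp : r ≠ p := ne_of_order hr (show 1 ≤ e * 8 by omega) ho
  have hd : r ∣ M := (dvd_eight hX (Or.inr rfl) hr ho).trans (N_dvd heq)
  rcases hY.order_cases hr hrp hd with h' | ⟨e', he, heB, h'⟩
  · rw [ho] at h'
    -- `8 e ∣ 12 f = 18 e`
    have h2 : e * 8 ∣ e * 18 := by
      have h3 : e * 18 = f * 12 := by omega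
      rw [h3]; exact h'
    have h3 := Nat.dvd_of_mul_dvd_mul_left hg h2
    revert h3; decide
  · rw [ho] at h'
    have heB' : e' ≤ 8 := heB
    have h2 : e * 16 ∣ e * (3 * e') := by
      have h3 : e * (3 * e') = 2 * (f * e') := by
        calc e * (3 * e') = 3 * e * e' := by ring
          _ = 2 * f * e' := by rw [h]
          _ = _ := by ring
      rw [h3]
      have h4 : e * 16 = 2 * (e * 8) := by ring
      rw [h4]
      exact Nat.mul_dvd_mul_left 2 h'
    have h3 := Nat.dvd_of_mul_dvd_mul_left hg h2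
    revert h3
    interval_cases e' <;> decide

theorem mul_dvd_cases {f e k l : ℕ} (hf : 1 ≤ f) (u v : ℕ) (h : u * e = v * f) (hd : f * k ∣ e * l) :
    u * k ∣ v * l := by
  obtain ⟨w, hw⟩ := hd
  refine ⟨w, ?_⟩
  apply Nat.eq_of_mul_eq_mul_left hf
  calc f * (v * l) = v * f * l := by ring
    _ = u * e * l := by rw [h]
    _ = u * (e * l) := by ring
    _ = u * (f * k * w) := by rw [hw]
    _ = _ := by ring

/-- **Identification in equal characteristic.** -/
theorem same_id (hX : Real X p e N) (hY : Real Y p f M) (hE : IsExc Y) (heq : N * c * p ^ a = M)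
    (hcp : 4 * c.factorization p < f * DM Y)
    (hcr : ∀ r, r.Prime → (orderOf (p : ZMod r) = f * DM Y ∨ orderOf (p : ZMod r) = f * BM Y ∨
      orderOf (p : ZMod r) = f * 8) → ¬ r ∣ c)
    (ha : (Y = .F4 ∧ 12 * f ∣ a) ∨ (Y = .E6 ∧ 9 * f ∣ a) ∨ (Y = .TE6 ∧ 18 * f ∣ a) ∨ a = 0)
    (hc : c < 73 ∨ Y ≠ .G2 ∧ Y ≠ .TD4 ∧ c < ((p ^ f) ^ 2 - 1) * ((p ^ f) ^ 6 - 1)) : X = Y ∧ e = f := by
  have hf := hY.hf
  have hg := hX.hf
  have hq := hY.q_ge
  have hge := Art.DM_ge hX
  have hc1 : 1 ≤ c := Nat.one_le_iff_ne_zero.2 (c_ne hY heq)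
  have h1 := DM_le₁ hX hY hE heq fun r hr ho => hcr r hr (Or.inl ho)
  have hD := le_antisymm (DM_le₂ hX hY hE heq h1) h1
  have fin : X = Y → X = Y ∧ e = f := by
    intro h
    refine ⟨h, ?_⟩
    rw [h] at hD
    exact Nat.eq_of_mul_eq_mul_right (by have := hE.DM_ge; omega) hD
  -- the number `s`
  obtain ⟨s, hs, hs'⟩ : ∃ s, 4 * a = f * DM Y * s ∧ ((Y = .F4 ∧ 4 ∣ s) ∨ (Y = .E6 ∧ 3 ∣ s) ∨ (Y = .TE6 ∧ 4 ∣ s) ∨
      s = 0) := by
    rcases ha with ⟨rfl, j, hj⟩ | ⟨rfl, j, hj⟩ | ⟨rfl, j, hj⟩ | rfl
    · exact ⟨4 * j, by rw [hj]; show 4 * (12 * f * j) = f * 12 * (4 * j); ring, Or.inl ⟨rfl, j, rfl⟩⟩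
    · exact ⟨3 * j, by rw [hj]; show 4 * (9 * f * j) = f * 12 * (3 * j); ring, Or.inr (Or.inl ⟨rfl, j, rfl⟩)⟩
    · exact ⟨4 * j, by rw [hj]; show 4 * (18 * f * j) = f * 18 * (4 * j); ring,
        Or.inr (Or.inr (Or.inl ⟨rfl, j, rfl⟩))⟩
    · exact ⟨0, by ring, Or.inr (Or.inr (Or.inr rfl))⟩
  obtain ⟨hk, hcp0⟩ := kap_eq hX hY heq hD hcp hs
  have hcross := cross_eq hX hY heq hcp0
  have hdX : 1 ≤ dd X (p ^ e) := Nat.one_le_iff_ne_zero.2 hX.dd_ne
  by_cases hB : DM Y < 2 * BM Y
  · -- two large exponents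
    have h8 : 8 ≤ BM Y := by
      cases hE
      all_goals first | decide | (exfalso; revert hB; decide)
    obtain ⟨hBX, hBB⟩ := BM_eq hX hY heq hD hB h8 fun r hr ho => hcr r hr (Or.inr (Or.inl ho))
    have hr := ratio hX hY hD hBB
    have hT := typA hX hBX
    cases hE with
    | G2 => exact absurd hB (by decide)
    | TD4 => exact absurd hB (by decide)
    | E8 =>
      have hs0 : s = 0 := by
        rcases hs' with ⟨h, -⟩ | ⟨h, -⟩ | ⟨h, -⟩ | h
        · cases h
        · cases h
        · cases h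
        · exact h
      apply fin
      have e1 : DM X * 6 = 30 * (DM X - BM X) := hr
      have e2 : kap X + s = 16 := hk
      rw [hs0] at e2
      generalize DM X = D at *
      generalize kap X = k at *
      generalize D - BM X = d at *
      cases hT <;> first | rfl | (exfalso; omega)
    | E7 =>
      have hs0 : s = 0 := by
        rcases hs' with ⟨h, -⟩ | ⟨h, -⟩ | ⟨h, -⟩ | h
        · cases h
        · cases h
        · cases h
        · exact h
      apply fin
      have e1 : DM X * 4 = 18 * (DM X - BM X) := hr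
      have e2 : kap X + s = 14 := hk
      rw [hs0] at e2
      generalize DM X = D at *
      generalize kap X = k at *
      generalize D - BM X = d at *
      cases hT <;> first | rfl | (exfalso; omega)
    | E6 =>
      have hs0 : 3 ∣ s := by
        rcases hs' with ⟨h, -⟩ | ⟨-, h⟩ | ⟨h, -⟩ | h
        · cases h
        · exact h
        · cases h
        · rw [h]; exact dvd_zero _
      have e1 : DM X * 3 = 12 * (DM X - BM X) := hr
      have e2 : kap X + s = 12 := hk
      have hX3 : X = .E6 ∨ X = .L 4 ∨ X = .DD 4 := by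
        clear hcross hdX fin hcr hc hcp hD hk hs hBB hBX hr
        generalize DM X = D at *
        generalize kap X = k at *
        generalize D - BM X = d at *
        cases hT with
        | L n h => right; left; congr 1; omega
        | DD n h => right; right; congr 1; omega
        | E6 => exact Or.inl rfl
        | _ => exfalso; omega
      rcases hX3 with rfl | rfl | rfl
      · exact fin rfl
      · exfalso
        have e3 : 1 * e = 3 * f := by
          have : e * 4 = f * 12 := hD
          omega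
        refine kill_eight hX hY (Or.inl rfl) heq (fun r hr ho => hcr r hr (Or.inr (Or.inr ho))) ⟨fun h => ?_,
          fun e' he1 he2 h => ?_⟩
        · have h := mul_dvd_cases hf 1 3 e3 h
          revert h; decide
        · have h := mul_dvd_cases hf 1 3 e3 h
          have he3 : e' ≤ 3 := he2
          revert h
          interval_cases e' <;> decide
      · exfalso
        have e3 : 2 * e = 3 * f := by
          have : e * 8 = f * 12 := hD
          omega
        refine kill_eight hX hY (Or.inl rfl) heq (fun r hr ho => hcr r hr (Or.inr (Or.inr ho))) ⟨fun h => ?_,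
          fun e' he1 he2 h => ?_⟩
        · have h := mul_dvd_cases hf 2 3 e3 h
          revert h; decide
        · have h := mul_dvd_cases hf 2 3 e3 h
          have he3 : e' ≤ 6 := he2
          revert h
          interval_cases e' <;> decide
    | F4 =>
      have hs0 : 4 ∣ s := by
        rcases hs' with ⟨-, h⟩ | ⟨h, -⟩ | ⟨h, -⟩ | h
        · exact h
        · cases h
        · cases h
        · rw [h]; exact dvd_zero _
      have e1 : DM X * 4 = 12 * (DM X - BM X) := hr
      have e2 : kap X + s = 8 := hk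
      have hX3 : X = .F4 ∨ X = .L 3 ∨ X = .U 4 ∨ X = .D 4 ∨ X = .TE6 := by
        clear hcross hdX fin hcr hc hcp hD hk hs hBB hBX hr
        generalize DM X = D at *
        generalize kap X = k at *
        generalize D - BM X = d at *
        cases hT with
        | L n h => right; left; congr 1; omega
        | U4 => exact Or.inr (Or.inr (Or.inl rfl))
        | D n h => right; right; right; left; congr 1; omega
        | TE6 => exact Or.inr (Or.inr (Or.inr (Or.inr rfl)))
        | F4 => exact Or.inl rfl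
        | _ => exfalso; omega
      have hc' : c < 73 ∨ c < ((p ^ f) ^ 2 - 1) * ((p ^ f) ^ 6 - 1) := by
        rcases hc with h | ⟨-, -, h⟩
        · exact Or.inl h
        · exact Or.inr h
      rcases hX3 with rfl | rfl | rfl | rfl | rfl
      · exact fin rfl
      · exfalso
        have e3 : e = 4 * f := by
          have : e * 3 = f * 12 := hD
          omega
        have e4 : p ^ e = (p ^ f) ^ 4 := by rw [e3, ← pow_mul]; congr 1; ring
        rw [e4] at hcross hdX
        refine F4_L3 hq hdX hc' ?_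
        have h5 := num_L3 (p ^ f)
        rw [h5] at hcross
        have h6 : dd .F4 (p ^ f) = 1 := rfl
        rw [h6, one_mul] at hcross
        exact hcross
      · exfalso
        have e3 : e = 2 * f := by
          have : e * 6 = f * 12 := hD
          omega
        have e4 : p ^ e = (p ^ f) ^ 2 := by rw [e3, ← pow_mul]; congr 1; ring
        rw [e4] at hcross hdX
        refine F4_U4 hq hdX hc' ?_
        have h5 := num_U4 (p ^ f)
        rw [h5] at hcross
        have h6 : dd .F4 (p ^ f) = 1 := rfl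
        rw [h6, one_mul] at hcross
        exact hcross
      · exfalso
        have e3 : e = 2 * f := by
          have : e * 6 = f * 12 := hD
          omega
        have e4 : p ^ e = (p ^ f) ^ 2 := by rw [e3, ← pow_mul]; congr 1; ring
        rw [e4] at hcross hdX
        have hd4 : dd (.D 4) ((p ^ f) ^ 2) ≤ 4 := Nat.gcd_le_left _ (by norm_num)
        refine F4_D4 hq hc1 hd4 ?_
        have h5 := num_D4 (p ^ f)
        rw [h5] at hcross
        have h6 : dd .F4 (p ^ f) = 1 := rfl
        rw [h6, one_mul] at hcross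
        exact hcross
      · exfalso
        have e3 : 3 * e = 2 * f := by
          have : e * 18 = f * 12 := hD
          omega
        exact kill_TE6 hX hY heq e3
    | TE6 =>
      have hs0 : 4 ∣ s := by
        rcases hs' with ⟨h, -⟩ | ⟨h, -⟩ | ⟨-, h⟩ | h
        · cases h
        · cases h
        · exact h
        · rw [h]; exact dvd_zero _
      have e1 : DM X * 6 = 18 * (DM X - BM X) := hr
      have e2 : kap X + s = 8 := hk
      have hX3 : X = .TE6 ∨ X = .L 3 ∨ X = .U 4 ∨ X = .D 4 ∨ X = .F4 := by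
        clear hcross hdX fin hcr hc hcp hD hk hs hBB hBX hr
        generalize DM X = D at *
        generalize kap X = k at *
        generalize D - BM X = d at *
        cases hT with
        | L n h => right; left; congr 1; omega
        | U4 => exact Or.inr (Or.inr (Or.inl rfl))
        | D n h => right; right; right; left; congr 1; omega
        | TE6 => exact Or.inl rfl
        | F4 => exact Or.inr (Or.inr (Or.inr (Or.inr rfl)))
        | _ => exfalso; omega
      rcases hX3 with rfl | rfl | rfl | rfl | rfl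
      · exact fin rfl
      · exfalso
        have e3 : 1 * e = 6 * f := by
          have : e * 3 = f * 18 := hD
          omega
        refine kill_eight hX hY (Or.inr rfl) heq (fun r hr ho => hcr r hr (Or.inr (Or.inr ho))) ⟨fun h => ?_,
          fun e' he1 he2 h => ?_⟩
        · have h := mul_dvd_cases hf 1 6 e3 h
          revert h; decide
        · have h := mul_dvd_cases hf 1 6 e3 h
          have he3 : e' ≤ 2 := he2
          revert h
          interval_cases e' <;> decide
      · exfalso
        have e3 : 1 * e = 3 * f := by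
          have : e * 6 = f * 18 := hD
          omega
        refine kill_eight hX hY (Or.inr rfl) heq (fun r hr ho => hcr r hr (Or.inr (Or.inr ho))) ⟨fun h => ?_,
          fun e' he1 he2 h => ?_⟩
        · have h := mul_dvd_cases hf 1 3 e3 h
          revert h; decide
        · have h := mul_dvd_cases hf 1 3 e3 h
          have he3 : e' ≤ 4 := he2
          revert h
          interval_cases e' <;> decide
      · exfalso
        have e3 : 1 * e = 3 * f := by
          have : e * 6 = f * 18 := hD
          omega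
        refine kill_eight hX hY (Or.inr rfl) heq (fun r hr ho => hcr r hr (Or.inr (Or.inr ho))) ⟨fun h => ?_,
          fun e' he1 he2 h => ?_⟩
        · have h := mul_dvd_cases hf 1 3 e3 h
          revert h; decide
        · have h := mul_dvd_cases hf 1 3 e3 h
          have he3 : e' ≤ 4 := he2
          revert h
          interval_cases e' <;> decide
      · exfalso
        have e3 : 2 * e = 3 * f := by
          have : e * 12 = f * 18 := hD
          omega
        refine kill_eight hX hY (Or.inr rfl) heq (fun r hr ho => hcr r hr (Or.inr (Or.inr ho))) ⟨fun h => ?_,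
          fun e' he1 he2 h => ?_⟩
        · have h := mul_dvd_cases hf 2 3 e3 h
          revert h; decide
        · have h := mul_dvd_cases hf 2 3 e3 h
          have he3 : e' ≤ 8 := he2
          revert h
          interval_cases e' <;> decide
  · -- one large exponent: `G₂`, `³D₄`
    have hBX := typB_of hX hY heq hD hB hE
    have hT := typB hX hBX
    have hc73 : c < 73 ∧ s = 0 := by
      cases hE with
      | G2 =>
        refine ⟨?_, ?_⟩
        · rcases hc with h | ⟨h, -⟩
          · exact h
          · exact absurd rfl h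
        · rcases hs' with ⟨h, -⟩ | ⟨h, -⟩ | ⟨h, -⟩ | h
          · cases h
          · cases h
          · cases h
          · exact h
      | TD4 =>
        refine ⟨?_, ?_⟩
        · rcases hc with h | ⟨-, h, -⟩
          · exact h
          · exact absurd rfl h
        · rcases hs' with ⟨h, -⟩ | ⟨h, -⟩ | ⟨h, -⟩ | h
          · cases h
          · cases h
          · cases h
          · exact h
      | F4 => exact absurd (by decide) hB
      | E6 => exact absurd (by decide) hB
      | E7 => exact absurd (by decide) hB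
      | E8 => exact absurd (by decide) hB
      | TE6 => exact absurd (by decide) hB
    obtain ⟨hc73, hs0⟩ := hc73
    rw [hs0, add_zero] at hk
    have hY2 : Y = .G2 ∨ Y = .TD4 := by
      cases hE with
      | G2 => exact Or.inl rfl
      | TD4 => exact Or.inr rfl
      | F4 => exact absurd (by decide) hB
      | E6 => exact absurd (by decide) hB
      | E7 => exact absurd (by decide) hB
      | E8 => exact absurd (by decide) hB
      | TE6 => exact absurd (by decide) hB
    have hk4 : kap X = 4 := by rcases hY2 with rfl | rfl <;> exact hk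
    have hX4 : X = .C 2 ∨ X = .G2 ∨ X = .TD4 ∨ X = .TF4 := by
      clear hcross hdX fin hcr hc hcp hD hk hs hBX
      generalize DM X = D at *
      generalize kap X = k at *
      cases hT with
      | C2 => exact Or.inl rfl
      | G2 => exact Or.inr (Or.inl rfl)
      | TD4 => exact Or.inr (Or.inr (Or.inl rfl))
      | TF4 => exact Or.inr (Or.inr (Or.inr rfl))
      | _ => exfalso; omega
    have hC2 := num_C2
    have hdC2 : ∀ Q : ℕ, dd (.C 2) Q ≤ 2 := fun Q => Nat.gcd_le_left _ (by norm_num)
    rcases hY2 with rfl | rfl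
    · have h6 : dd .G2 (p ^ f) = 1 := rfl
      rw [h6, one_mul] at hcross
      have hq3 : 3 ≤ p ^ f := hY.ok
      rcases hX4 with rfl | rfl | rfl | rfl
      · exfalso
        have e3 : 2 * e = 3 * f := by
          have : e * 4 = f * 6 := hD
          omega
        refine G2_C2 hq3 hc1 (hdC2 (p ^ e)) ?_
        rw [hC2] at hcross
        have h7 : (p ^ e) ^ 2 = (p ^ f) ^ 3 := by rw [← pow_mul, ← pow_mul]; congr 1; omega
        have h8 : (p ^ e) ^ 4 = (p ^ f) ^ 6 := by rw [← pow_mul, ← pow_mul, show e * 4 = f * 6 from hD]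
        rw [h7, h8] at hcross
        exact hcross
      · exact fin rfl
      · exfalso
        have e3 : f = 2 * e := by
          have : e * 12 = f * 6 := hD
          omega
        have h7 : p ^ f = (p ^ e) ^ 2 := by rw [e3, ← pow_mul, mul_comm]
        refine G2_TD4 (c := c) hX.q_ge ?_
        rw [h7] at hcross
        have h8 : dd .TD4 (p ^ e) = 1 := rfl
        rw [h8, one_mul] at hcross
        have h9 := num_G2 (p ^ e)
        rw [h9] at hcross
        exact hcross
      · exfalso
        have e3 : f = 2 * e := by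
          have : e * 12 = f * 6 := hD
          omega
        obtain ⟨hp2, -, he3⟩ : p = 2 ∧ Odd e ∧ 3 ≤ e := hX.ok
        have h7 : p ^ f = (p ^ e) ^ 2 := by rw [e3, ← pow_mul, mul_comm]
        have h10 : 8 ≤ p ^ e := by
          rw [hp2]
          exact (show 8 = 2 ^ 3 by norm_num) ▸ Nat.pow_le_pow_right (by norm_num) he3
        refine G2_TF4 (c := c) h10 hc73 ?_
        rw [h7] at hcross
        have h8 : dd .TF4 (p ^ e) = 1 := rfl
        rw [h8, one_mul] at hcross
        have h9 := num_G2 (p ^ e)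
        rw [h9] at hcross
        exact hcross
    · have h6 : dd .TD4 (p ^ f) = 1 := rfl
      rw [h6, one_mul] at hcross
      rcases hX4 with rfl | rfl | rfl | rfl
      · exfalso
        have e3 : e = 3 * f := by
          have : e * 4 = f * 12 := hD
          omega
        refine TD4_C2 hq hc1 (hdC2 (p ^ e)) ?_
        rw [hC2] at hcross
        have h7 : (p ^ e) ^ 2 = (p ^ f) ^ 6 := by rw [← pow_mul, ← pow_mul]; congr 1; rw [e3]; ring
        have h8 : (p ^ e) ^ 4 = (p ^ f) ^ 12 := by rw [← pow_mul, ← pow_mul, show e * 4 = f * 12 from hD]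
        rw [h7, h8] at hcross
        exact hcross
      · exfalso
        have e3 : e = 2 * f := by
          have : e * 6 = f * 12 := hD
          omega
        have h7 : p ^ e = (p ^ f) ^ 2 := by rw [e3, ← pow_mul]; congr 1; ring
        refine TD4_G2 hq hc1 ?_
        have h8 : dd .G2 (p ^ e) = 1 := rfl
        rw [h8, one_mul, h7] at hcross
        have h9 := num_G2 (p ^ f)
        rw [h9] at hcross
        exact hcross
      · exact fin rfl
      · exfalso
        have e3 : e = f := by
          have : e * 12 = f * 12 := hD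
          omega
        subst e3
        have h8 : dd .TF4 (p ^ e) = 1 := rfl
        rw [h8, one_mul] at hcross
        exact TD4_TF4 (c := c) hq hcross

end main

end Cfsg.Agent.H962.IdSame
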