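import Mathlib
import Cfsg.Agent.H365.Near
import Cfsg.Agent.H962.IdSame

/-!
# Identification in equal characteristic: the socle of an almost simple group of exceptional order (helper962)

* `same_gen` : `|N| * c * k = M`, `N` of type `X(p^g)`, `M = |Y(p^f)|`, `Y` exceptional, `c` divides `|Out N|` (in the form
  of the data of `OutLie.card_out`), `p ∤ k`, `k` prime to some prime of order `f * DM Y`: then `X = Y`, `g = f` or
  `X = ²F₄`, `Y = G₂`, `f = 2 g`;
* `same_out0` : the same with `k = 1`: `X = Y`, `g = f`.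
-/

set_option autoImplicit false

namespace Cfsg.Agent.H962.SameOut

open Cfsg.Agent.H902 Cfsg.Agent.H902.Art Cfsg.Agent.Lib.Zsigmondy Cfsg.Agent.H962.IdSame

variable {X Y : Sh} {p f g M N : ℕ}

/-- the data of an outer automorphism group -/
def OutC (X : Sh) (p g c : ℕ) : Prop := ∃ c', c ∣ c' * g ∧ c' ∣ 24 * dd X (p ^ g) ∧ (p = 2 → c' ∣ 6 * dd X (p ^ g))

theorem exists_ppd {p n : ℕ} (hp : p.Prime) (hn : 3 ≤ n) (hex : ¬ (p = 2 ∧ n = 6)) :
    ∃ t : ℕ, t.Prime ∧ t ≠ p ∧ orderOf (p : ZMod t) = n := by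
  obtain ⟨t, ht, ho⟩ := Cfsg.Agent.Lib.Zsigmondy.exists_prime_orderOf hp.two_le (by omega) (fun h => by omega) hex
  exact ⟨t, ht, ne_of_order ht (by omega) ho, ho⟩

theorem le_DM (hX : Real X p g N) (hY : Real Y p f M) (hdvd : N ∣ M) (h6 : 6 ≤ f * DM Y) :
    g * DM X ≤ f * DM Y := by
  by_cases h3 : 3 ≤ g * DM X
  · by_cases hex : p = 2 ∧ g * DM X = 6
    · omega
    · obtain ⟨t, ht, htp, ho⟩ := exists_ppd hX.hp h3 hex
      have h1 : t ∣ N := hX.dvd_of_order_DM ht ho h3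
      have hYl := BM_lt hY
      rcases hY.order_cases ht htp (h1.trans hdvd) with h2 | ⟨e, he1, he2, h2⟩
      · rw [ho] at h2
        exact Nat.le_of_dvd (by omega) h2
      · rw [ho] at h2
        have h4 := Nat.le_of_dvd (Nat.mul_pos (by have := hY.hf; omega) he1) h2
        exact h4.trans (Nat.mul_le_mul_left f (by omega))
  · omega

theorem dd_cases (hX : Real X p g N) {t : ℕ} (ht5 : 5 ≤ t) (h : t ∣ dd X (p ^ g)) :
    (orderOf (p : ZMod t) ∣ g ∧ ∃ n, X = .L n) ∨ (orderOf (p : ZMod t) ∣ 2 * g ∧ ∃ n, X = .U n) := by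
  have hl4 : ∀ {a : ℕ}, t ∣ Nat.gcd 4 a → False := fun {a} h => by
    have := Nat.le_of_dvd (by norm_num) (h.trans (Nat.gcd_dvd_left _ _)); omega
  have hl3 : ∀ {a : ℕ}, t ∣ Nat.gcd 3 a → False := fun {a} h => by
    have := Nat.le_of_dvd (by norm_num) (h.trans (Nat.gcd_dvd_left _ _)); omega
  have hl2 : ∀ {a : ℕ}, t ∣ Nat.gcd 2 a → False := fun {a} h => by
    have := Nat.le_of_dvd (by norm_num) (h.trans (Nat.gcd_dvd_left _ _)); omega
  have hl1 : t ∣ 1 → False := fun h => by have := Nat.le_of_dvd (by norm_num) h; omega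
  cases X with
  | L n =>
    left
    have h1 : t ∣ (p ^ g) ^ 1 - 1 := by rw [pow_one]; exact Nat.dvd_trans h (Nat.gcd_dvd_right _ _)
    exact ⟨by have := (dvd_iff hX.hp 1).1 h1; rwa [mul_one] at this, n, rfl⟩
  | U n =>
    right
    have h1 : t ∣ (p ^ g) ^ 1 + 1 := by rw [pow_one]; exact Nat.dvd_trans h (Nat.gcd_dvd_right _ _)
    exact ⟨by have := dvd_of_add hX.hp h1; rwa [mul_one, mul_comm] at this, n, rfl⟩
  | C n => exact (hl2 h).elim
  | D n => exact (hl4 h).elim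
  | DD n => exact (hl4 h).elim
  | G2 => exact (hl1 h).elim
  | F4 => exact (hl1 h).elim
  | E6 => exact (hl3 h).elim
  | E7 => exact (hl2 h).elim
  | E8 => exact (hl1 h).elim
  | TE6 => exact (hl3 h).elim
  | TD4 => exact (hl1 h).elim
  | Sz => exact (hl1 h).elim
  | Ree => exact (hl1 h).elim
  | TF4 => exact (hl1 h).elim

theorem OutC.prime (hX : Real X p g N) {c : ℕ} (hI : OutC X p g c) {t : ℕ} (ht : t.Prime) (ht5 : 5 ≤ t)
    (h : t ∣ c) : t ∣ g ∨ (orderOf (p : ZMod t) ∣ g ∧ ∃ n, X = .L n) ∨ (orderOf (p : ZMod t) ∣ 2 * g ∧ ∃ n, X = .U n) := by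
  obtain ⟨c', h1, h2, -⟩ := hI
  rcases ht.dvd_mul.1 (h.trans h1) with h3 | h3
  · rcases ht.dvd_mul.1 (h3.trans h2) with h4 | h4
    · exfalso
      have h5 : t ∣ 2 ^ 3 * 3 := h4
      rcases ht.dvd_mul.1 h5 with h6 | h6
      · have := Nat.le_of_dvd (by norm_num) (ht.dvd_of_dvd_pow h6); omega
      · have := Nat.le_of_dvd (by norm_num) h6; omega
    · exact Or.inr (dd_cases hX ht5 h4)
  · exact Or.inl h3

theorem DM_ge_six (hE : IsExc Y) : 6 ≤ DM Y := by cases hE <;> decide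

theorem not_six (hY : Real Y p f M) (hE : IsExc Y) : ¬ (p = 2 ∧ f * DM Y = 6) := by
  rintro ⟨rfl, h⟩
  have hf := hY.hf
  have hok := hY.ok
  cases hE with
  | G2 =>
    have h1 : f * 6 = 6 := h
    have h2 : f = 1 := by omega
    subst h2
    have h3 : 3 ≤ 2 ^ 1 := hok
    omega
  | F4 => have h1 : f * 12 = 6 := h; omega
  | E6 => have h1 : f * 12 = 6 := h; omega
  | E7 => have h1 : f * 18 = 6 := h; omega
  | E8 => have h1 : f * 30 = 6 := h; omega
  | TE6 => have h1 : f * 18 = 6 := h; omega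
  | TD4 => have h1 : f * 12 = 6 := h; omega

/-- the primes of the largest order do not divide `|Out|` -/
theorem not_dvd_c (hX : Real X p g N) (hY : Real Y p f M) (hE : IsExc Y) (hdvd : N ∣ M) {c : ℕ} (hI : OutC X p g c)
    {r : ℕ} (hr : r.Prime) (hro : orderOf (p : ZMod r) = f * DM Y) : ¬ r ∣ c := by
  intro hrc
  have hf := hY.hf
  have hg := hX.hf
  have h6 : 6 ≤ f * DM Y := (DM_ge_six hE).trans (Nat.le_mul_of_pos_left _ hf)
  have hle := le_DM hX hY hdvd h6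
  have hge := DM_ge hX
  have hDX : g * 2 ≤ g * DM X := Nat.mul_le_mul_left _ hge.1
  have hrf : Fact r.Prime := ⟨hr⟩
  have hrp : r ≠ p := ne_of_order hr (by omega) hro
  have hlt : f * DM Y < r := by
    rw [← hro]
    have hne : (p : ZMod r) ≠ 0 := by
      rw [Ne, ZMod.natCast_eq_zero_iff]
      intro h
      exact hrp ((Nat.prime_dvd_prime_iff_eq hr hX.hp).1 h)
    have h1 := ZMod.orderOf_dvd_card_sub_one hne
    have h2 := Nat.le_of_dvd (by have := hr.two_le; omega) h1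
    have := hr.two_le
    omega
  rcases hI.prime hX hr (by omega) hrc with h | ⟨h, -⟩ | ⟨h, n, rfl⟩
  · have := Nat.le_of_dvd (by omega) h
    omega
  · rw [hro] at h
    have := Nat.le_of_dvd (by omega) h
    omega
  · rw [hro] at h
    have h1 := Nat.le_of_dvd (by omega) h
    have h3 : g * 3 ≤ g * DM (.U n) := Nat.mul_le_mul_left _ (hge.2 ⟨n, rfl⟩)
    omega

/-- **Identification.** -/
theorem same_gen (hX : Real X p g N) (hY : Real Y p f M) (hE : IsExc Y) {c k : ℕ}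
    (heq : N * c * k = M) (hI : OutC X p g c) (hpk : ¬ p ∣ k)
    (hrk : ∀ r : ℕ, r.Prime → orderOf (p : ZMod r) = f * DM Y → ¬ r ∣ k) :
    (X = Y ∧ g = f) ∨ (X = .TF4 ∧ Y = .G2 ∧ f = 2 * g) := by
  have hf := hY.hf
  have hg := hX.hf
  have hp := hY.hp
  have hM := hY.M_ne
  have hN := hX.M_ne
  have hc0 : c ≠ 0 := by rintro rfl; apply hM; rw [← heq]; ring
  have hk0 : k ≠ 0 := by rintro rfl; apply hM; rw [← heq]; ring
  have hdvd : N ∣ M := by rw [← heq, mul_assoc]; exact Dvd.intro _ rfl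
  have h6 : 6 ≤ f * DM Y := (DM_ge_six hE).trans (Nat.le_mul_of_pos_left _ hf)
  obtain ⟨r, hr, hrp, hro⟩ := exists_ppd hp (by omega : 3 ≤ f * DM Y) (not_six hY hE)
  have hrM : r ∣ M := hY.dvd_of_order_DM hr hro (by omega)
  have hrN : r ∣ N := by
    rw [← heq] at hrM
    rcases hr.dvd_mul.1 hrM with h | h
    · exact (hr.dvd_mul.1 h).resolve_right (not_dvd_c hX hY hE hdvd hI hr hro)
    · exact absurd h (hrk r hr hro)
  -- the defect
  have hfN : N.factorization p = g * NN X := by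
    have h1 := hX.P_self
    rw [← pow_mul] at h1
    exact Nat.pow_right_injective hp.two_le h1
  have hfM : M.factorization p = f * NN Y := by
    have h1 := hY.P_self
    rw [← pow_mul] at h1
    exact Nat.pow_right_injective hp.two_le h1
  have hδ : f * NN Y - g * NN X = c.factorization p := by
    rw [← hfN, ← hfM, ← heq, Nat.factorization_mul (mul_ne_zero hN hc0) hk0, Finsupp.add_apply,
      Nat.factorization_eq_zero_of_not_dvd hpk, Nat.factorization_mul hN hc0, Finsupp.add_apply]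
    omega
  have hpd : p ^ c.factorization p ∣ c := Nat.ordProj_dvd _ _
  obtain ⟨c', h3, h4, h5⟩ := hI
  have hcop : Nat.Coprime (p ^ c.factorization p) (dd X (p ^ g)) :=
    Nat.Coprime.pow_left _ ((Nat.Prime.coprime_iff_not_dvd hp).2 hX.not_dvd_dd)
  have h24 : p ^ (f * NN Y - g * NN X) ∣ 24 * g := by
    rw [hδ]
    have h1 : p ^ c.factorization p ∣ dd X (p ^ g) * (24 * g) := by
      refine (hpd.trans h3).trans ?_
      rw [show dd X (p ^ g) * (24 * g) = (24 * dd X (p ^ g)) * g by ring]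
      exact Nat.mul_dvd_mul_right h4 g
    exact hcop.dvd_of_dvd_mul_left h1
  have h6' : p = 2 → 2 ^ (f * NN Y - g * NN X) ∣ 6 * g := by
    intro hp2
    rw [hδ]
    have h1 : p ^ c.factorization p ∣ dd X (p ^ g) * (6 * g) := by
      refine (hpd.trans h3).trans ?_
      rw [show dd X (p ^ g) * (6 * g) = (6 * dd X (p ^ g)) * g by ring]
      exact Nat.mul_dvd_mul_right (h5 hp2) g
    have h7 := hcop.dvd_of_dvd_mul_left h1
    rw [← hp2] at *
    exact h7
  rcases H365.Near.near_out hX hY hdvd hr hro (by omega) hrN h24 h6' with h | h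
  · exact Or.inl h
  · right
    unfold H365.Near.Exc at h
    rcases h with ⟨-, h, -⟩ | ⟨-, h, -⟩ | ⟨n, -, -, h, -⟩ | ⟨-, h, -⟩ | ⟨-, h, -⟩ | ⟨-, h, -⟩ | ⟨-, h, -⟩ |
      ⟨h1, h2, h3⟩
    all_goals first
      | (subst h; cases hE)
      | exact ⟨h1, h2, h3⟩

/-- `²F₄(q)` and `G₂(q²)` -/
theorem tf4_g2 {g M N c : ℕ} (hX : Real .TF4 p g N) (hY : Real .G2 p (2 * g) M) (heq : N * c = M) :
    c = (p ^ g) ^ 2 + p ^ g + 1 := by
  have hN := hX.M_ne
  have h1 := hX.eq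
  have h2 := hY.eq
  have hq := hX.q_ge
  have hpp : p ^ (2 * g) = (p ^ g) ^ 2 := by rw [← pow_mul, mul_comm]
  rw [hpp] at h2
  set q := p ^ g with hqdef
  clear_value q
  have h3 : N = q ^ 12 * ((q - 1) * (q ^ 3 + 1) * (q ^ 4 - 1) * (q ^ 6 + 1)) := by
    have : dd .TF4 q * N = q ^ NN .TF4 * num .TF4 q := h1
    rw [show dd .TF4 q = 1 from rfl, one_mul] at this
    exact this
  have h4 : M = (q ^ 2) ^ 6 * (((q ^ 2) ^ 2 - 1) * ((q ^ 2) ^ 6 - 1)) := by
    have : dd .G2 (q ^ 2) * M = (q ^ 2) ^ NN .G2 * num .G2 (q ^ 2) := h2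
    rw [show dd .G2 (q ^ 2) = 1 from rfl, one_mul] at this
    exact this
  have h5 : M = N * (q ^ 2 + q + 1) := by
    rw [h4, h3]
    obtain ⟨x, rfl⟩ : ∃ x, q = x + 1 := ⟨q - 1, by omega⟩
    have e1 : (x + 1) ^ 4 - 1 = x * ((x + 1) ^ 3 + (x + 1) ^ 2 + (x + 1) + 1) := by
      have : (x + 1) ^ 4 = x * ((x + 1) ^ 3 + (x + 1) ^ 2 + (x + 1) + 1) + 1 := by ring
      omega
    have e2 : ((x + 1) ^ 2) ^ 2 - 1 = x * ((x + 1) ^ 3 + (x + 1) ^ 2 + (x + 1) + 1) := by
      have : ((x + 1) ^ 2) ^ 2 = x * ((x + 1) ^ 3 + (x + 1) ^ 2 + (x + 1) + 1) + 1 := by ring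
      omega
    have e3 : ((x + 1) ^ 2) ^ 6 - 1 = ((x + 1) ^ 6 + 1) * (((x + 1) ^ 3 + 1) * (x * ((x + 1) ^ 2 + (x + 1) + 1))) := by
      have : ((x + 1) ^ 2) ^ 6 = ((x + 1) ^ 6 + 1) * (((x + 1) ^ 3 + 1) * (x * ((x + 1) ^ 2 + (x + 1) + 1))) + 1 := by
        ring
      omega
    rw [e1, e2, e3, Nat.add_sub_cancel]
    ring
  rw [← heq] at h5
  exact Nat.eq_of_mul_eq_mul_left (Nat.pos_of_ne_zero hN) h5

/-- **Identification of an almost simple group.** -/
theorem same_out0 (hX : Real X p g N) (hY : Real Y p f M) (hE : IsExc Y) {c : ℕ}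
    (heq : N * c = M) (hI : OutC X p g c) : X = Y ∧ g = f := by
  have hp := hY.hp
  have hg := hX.hf
  rcases same_gen hX hY hE (k := 1) (by rw [mul_one]; exact heq) hI (fun h => hp.one_lt.ne' (Nat.dvd_one.1 h))
    (fun r hr _ h => hr.one_lt.ne' (Nat.dvd_one.1 h)) with h | ⟨rfl, rfl, rfl⟩
  · exact h
  · exfalso
    have h1 := tf4_g2 hX hY heq
    have hp2 : p = 2 := hX.ok.1
    obtain ⟨c', h3, -, h5⟩ := hI
    have h6 := h5 hp2
    have h7 : c' ≤ 6 := Nat.le_of_dvd (by norm_num) h6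
    have hc'0 : c' ≠ 0 := by
      rintro rfl
      rw [zero_dvd_iff] at h6
      have : 6 * dd .TF4 (p ^ g) = 6 := rfl
      omega
    have h8 : c ≤ 6 * g := (Nat.le_of_dvd (Nat.mul_pos (Nat.pos_of_ne_zero hc'0) hg) h3).trans
      (Nat.mul_le_mul_right _ h7)
    rw [h1, hp2] at h8
    have h9 : g < 2 ^ g := Nat.lt_two_pow_self
    by_cases hg5 : g ≤ 4
    · interval_cases g <;> norm_num at h8
    · have h10 : 6 ≤ 2 ^ g := by
        have : 2 ^ 5 ≤ 2 ^ g := Nat.pow_le_pow_right (by norm_num) (by omega)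
        omega
      nlinarith

end Cfsg.Agent.H962.SameOut
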