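import Cfsg.Agent.H405.UE.GD
import Cfsg.Agent.H378.AdjTab

/-!
# A torus element commuting with a root `SL₂(q)` (helper962)

`Y = D.group F`, `F` finite with `q` elements, `w ∈ W`, `a` a root with `w a = a`.

* `exists_sl` : if `ℤ^l/(w-q)` has an element of prime order `ℓ ∤ q - 1` then in `D.group F` some `x` of order `ℓ` commutes
  with the image of a homomorphism `Ψ : SL₂(F) → D.group F`;
* `exists_comm_sl` : for `m ∣ q - 1` or `m ∣ q + 1`, `3 ≤ m` there is `y` of order `m` commuting with `x`;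
* `exists_row_sl` : the same from the tables of helper378.
-/

set_option autoImplicit false
set_option linter.unusedSectionVars false

namespace Cfsg.Agent.H962.RootSL

open CoxeterSystem Subgroup Cfsg Cfsg.Lie Cfsg.Lie.ChevalleyDatum
open Cfsg.Agent.ChevalleyStructure Cfsg.Agent.ChevalleyStructure.Elts Cfsg.Agent.ChevalleyStructure.CoxeterGeom
  Cfsg.Agent.ChevalleyStructure.CoxeterGeomTypes Cfsg.Agent.ChevalleyStructure.NPerm
  Cfsg.Agent.ChevalleyStructure.RootVec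
open Cfsg.Agent.Tits.Roots Cfsg.Agent.Tits.Core Cfsg.Agent.Nodes.Reps Cfsg.Agent.Nodes.BNOf
  Cfsg.Agent.Nodes.RGDChev Cfsg.Agent.Nodes.Bruhat
open Cfsg.Agent.KFacts.RgdField Cfsg.Agent.KFacts.RgdChevCoord Cfsg.Agent.BpExc.TorCent Cfsg.Agent.BpExc.TorChev
open Cfsg.Agent.BpExc.Tow Cfsg.Agent.BpExc.TowChev Cfsg.Agent.BpExc.FamExt Cfsg.Agent.BpExc.FamUntw
  Cfsg.Agent.BpExc.FamInst Cfsg.Agent.BpExc.LangFr Cfsg.Agent.BpExc.FamField
open Cfsg.Agent.GpExc.Field (glMap emb coe_emb glMap_xG emb_injective coe_glMap)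
open Cfsg.Agent.H378.TorDual Cfsg.Agent.H378.TorChar Cfsg.Agent.H378.TorFin Cfsg.Agent.H378.RankOne
  Cfsg.Agent.H378.RootTor Cfsg.Agent.H405.UE Cfsg.Agent.H564.U Cfsg.Agent.H129.TorusChar

universe u v

/-! ### `SL₂` -/

section SL

variable {F : Type*} {k : Type*} [Field F] [Field k]

theorem sl_mem {H : Subgroup (Matrix.SpecialLinearGroup (Fin 2) F)} (h1 : ∀ t : F, sx t ∈ H) (h2 : ∀ t : F, sy t ∈ H)
    (A : Matrix.SpecialLinearGroup (Fin 2) F) : A ∈ H := by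
  have h := SL2Hom.mem_closure_SL2 A
  refine (Subgroup.closure_le _).2 ?_ h
  rintro _ (⟨t, rfl⟩ | ⟨t, rfl⟩)
  · exact h1 t
  · exact h2 t

theorem sx_conj (c : kˣ) (t : k) : dg c * sx t * (dg c)⁻¹ = sx ((c : k) ^ 2 * t) := by
  rw [mul_inv_eq_iff_eq_mul]
  apply Subtype.ext
  show !![(c : k), 0; 0, (c : k)⁻¹] * !![1, t; 0, 1] = !![1, (c : k) ^ 2 * t; 0, 1] * !![(c : k), 0; 0, (c : k)⁻¹]
  have hc := c.ne_zero
  ext i j
  fin_cases i <;> fin_cases j
  · simp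
  · simp
    field_simp
  · simp
  · simp

theorem sy_conj (c : kˣ) (t : k) : dg c * sy t * (dg c)⁻¹ = sy (((c : k)⁻¹) ^ 2 * t) := by
  rw [mul_inv_eq_iff_eq_mul]
  apply Subtype.ext
  show !![(c : k), 0; 0, (c : k)⁻¹] * !![1, 0; t, 1] = !![1, 0; ((c : k)⁻¹) ^ 2 * t, 1] * !![(c : k), 0; 0, (c : k)⁻¹]
  have hc := c.ne_zero
  ext i j
  fin_cases i <;> fin_cases j
  · simp
  · simp
  · simp
    field_simp
  · simp

theorem map_sx (f : F →+* k) (t : F) : Matrix.SpecialLinearGroup.map f (sx t) = sx (f t) := by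
  apply Subtype.ext
  show (!![1, t; 0, 1] : Matrix (Fin 2) (Fin 2) F).map f = !![1, f t; 0, 1]
  ext i j
  fin_cases i <;> fin_cases j <;> simp

theorem map_sy (f : F →+* k) (t : F) : Matrix.SpecialLinearGroup.map f (sy t) = sy (f t) := by
  apply Subtype.ext
  show (!![1, 0; t, 1] : Matrix (Fin 2) (Fin 2) F).map f = !![1, 0; f t, 1]
  ext i j
  fin_cases i <;> fin_cases j <;> simp

theorem sx_add (s t : k) : sx (s + t) = sx s * sx t := by
  apply Subtype.ext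
  show !![1, s + t; 0, 1] = !![1, s; 0, 1] * !![1, t; 0, 1]
  ext i j
  fin_cases i <;> fin_cases j <;> simp [add_comm]

/-- a matrix over `F` with given eigenvalues -/
theorem exists_diag (f : F →+* k) {ζ : kˣ} (hζ : (ζ : k) ≠ (ζ : k)⁻¹) {t : F} (ht : (ζ : k) + (ζ : k)⁻¹ = f t) :
    ∃ (A : Matrix.SpecialLinearGroup (Fin 2) F) (P : Matrix.SpecialLinearGroup (Fin 2) k),
      Matrix.SpecialLinearGroup.map f A = P * dg ζ * P⁻¹ := by
  have h0 : (ζ : k) - (ζ : k)⁻¹ ≠ 0 := sub_ne_zero.2 hζ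
  have hz := ζ.ne_zero
  refine ⟨⟨!![0, -1; 1, t], by simp [Matrix.det_fin_two]⟩,
    ⟨!![1, ((ζ : k) - (ζ : k)⁻¹)⁻¹; -(ζ : k), -(ζ : k)⁻¹ * ((ζ : k) - (ζ : k)⁻¹)⁻¹], ?_⟩, ?_⟩
  · rw [Matrix.det_fin_two_of]
    have : (1 : k) * (-(ζ : k)⁻¹ * ((ζ : k) - (ζ : k)⁻¹)⁻¹) - ((ζ : k) - (ζ : k)⁻¹)⁻¹ * -(ζ : k) =
        ((ζ : k) - (ζ : k)⁻¹) * ((ζ : k) - (ζ : k)⁻¹)⁻¹ := by ring
    rw [this, mul_inv_cancel₀ h0]
  · refine eq_mul_inv_of_mul_eq ?_
    apply Subtype.ext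
    have hm : (!![0, -1; 1, t] : Matrix (Fin 2) (Fin 2) F).map f = !![0, -1; 1, f t] := by
      ext i j
      fin_cases i <;> fin_cases j <;> simp
    show (!![0, -1; 1, t] : Matrix (Fin 2) (Fin 2) F).map f * !![1, ((ζ : k) - (ζ : k)⁻¹)⁻¹; -(ζ : k), -(ζ : k)⁻¹ * ((ζ : k) - (ζ : k)⁻¹)⁻¹] =
      !![1, ((ζ : k) - (ζ : k)⁻¹)⁻¹; -(ζ : k), -(ζ : k)⁻¹ * ((ζ : k) - (ζ : k)⁻¹)⁻¹] * !![(ζ : k), 0; 0, (ζ : k)⁻¹]
    rw [hm, ← ht]
    obtain ⟨δ, hδ⟩ : ∃ δ, δ = ((ζ : k) - (ζ : k)⁻¹)⁻¹ := ⟨_, rfl⟩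
    rw [← hδ]
    have e00 : (0 : k) * 1 + -1 * -(ζ : k) = 1 * (ζ : k) + δ * 0 := by ring
    have e01 : (0 : k) * δ + -1 * (-(ζ : k)⁻¹ * δ) = 1 * 0 + δ * (ζ : k)⁻¹ := by ring
    have e10 : (1 : k) * 1 + ((ζ : k) + (ζ : k)⁻¹) * -(ζ : k) = -(ζ : k) * (ζ : k) + -(ζ : k)⁻¹ * δ * 0 := by
      field_simp
      ring
    have e11 : (1 : k) * δ + ((ζ : k) + (ζ : k)⁻¹) * (-(ζ : k)⁻¹ * δ) =
        -(ζ : k) * 0 + -(ζ : k)⁻¹ * δ * (ζ : k)⁻¹ := by
      field_simp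
      ring
    rw [Matrix.mul_fin_two, Matrix.mul_fin_two, e00, e01, e10, e11]

end SL

variable {D : ChevalleyDatum} {l : ℕ} {M : CoxeterMatrix (Fin l)} (hp : IsType D l M) {k : Type u} [Field k]
  {W : Type*} [Group W] (cs : CoxeterSystem M W)

theorem zz_simple (i : Fin l) (s : k) : zz hp (D.simple i) s = xc hp (sr i) s := by
  have hi := simple_lt hp.inList (lt_rank hp i)
  apply Subtype.ext
  rw [← vec_simple hp i, coe_xc hp hi]
  rfl

theorem zz_neg_simple (i : Fin l) (s : k) : zz hp (D.neg (D.simple i)) s = xc hp (-sr i) s := by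
  have hi := simple_lt hp.inList (lt_rank hp i)
  have hni := neg_lt hp.inList hi
  apply Subtype.ext
  rw [← vec_simple hp i, ← vec_neg hp hi, coe_xc hp hni]
  rfl

/-- the order of a coroot element -/
theorem orderOf_hc {i : Fin l} {v : Fin l → ℤ} (hv : pairing (cartanOf D l) i v = 1 ∨ pairing (cartanOf D l) i v = -1)
    (c : kˣ) : orderOf (hc hp i (c : k)) = orderOf c := by
  have hpow : ∀ m : ℕ, hc hp i (c : k) ^ m = 1 ↔ c ^ m = 1 := by
    intro m
    constructor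
    · intro h1
      have h2 := cX_pow hp (hc_mem hp i c.ne_zero) m v
      rw [h1, cX_one, cX_hc] at h2
      have h3 : (c ^ pairing (cartanOf D l) i v) ^ m = 1 := by
        apply Units.ext
        rw [Units.val_pow_eq_pow_val, ← h2, Units.val_one]
      rcases hv with h | h
      · rwa [h, zpow_one] at h3
      · rw [h, zpow_neg, zpow_one, inv_pow, inv_eq_one] at h3
        exact h3
    · intro h1
      obtain ⟨φ, -, -, h3⟩ := exists_sl2 hp k (r := D.simple i) (simple_lt hp.inList (lt_rank hp i))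
      have h4 : ∀ j : ℕ, (dg c : Matrix.SpecialLinearGroup (Fin 2) k) ^ j = dg (c ^ j) := by
        intro j
        induction j with
        | zero =>
          rw [pow_zero, pow_zero]
          apply Subtype.ext
          show (1 : Matrix (Fin 2) (Fin 2) k) = !![((1 : kˣ) : k), 0; 0, ((1 : kˣ) : k)⁻¹]
          rw [Units.val_one, inv_one, Matrix.one_fin_two]
        | succ j ih =>
          rw [pow_succ, ih]
          apply Subtype.ext
          show !![((c ^ j : kˣ) : k), 0; 0, ((c ^ j : kˣ) : k)⁻¹] * !![(c : k), 0; 0, (c : k)⁻¹] =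
            !![((c ^ (j + 1) : kˣ) : k), 0; 0, ((c ^ (j + 1) : kˣ) : k)⁻¹]
          rw [pow_succ, Units.val_mul]
          ext a b
          fin_cases a <;> fin_cases b <;> simp [mul_comm]
      have h5 : hc hp i (c : k) = φ (dg c) := by rw [h3]; rfl
      rw [h5, ← map_pow, h4, h1]
      have h6 : (dg (1 : kˣ) : Matrix.SpecialLinearGroup (Fin 2) k) = 1 := by
        apply Subtype.ext
        show !![((1 : kˣ) : k), 0; 0, ((1 : kˣ) : k)⁻¹] = 1
        rw [Units.val_one, inv_one, Matrix.one_fin_two]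
      rw [h6, map_one]
  exact orderOf_eq_orderOf_iff.2 hpow

theorem orderOf_conj' {Y : Type*} [Group Y] (z y : Y) : orderOf (z * y * z⁻¹) = orderOf y := by
  have h1 : z * y * z⁻¹ = MulAut.conj z y := rfl
  rw [h1, MulEquiv.orderOf_eq]

theorem dg_inj {c : kˣ} (h : (dg c : Matrix.SpecialLinearGroup (Fin 2) k) = 1) : c = 1 := by
  have h1 := congrArg (fun A : Matrix.SpecialLinearGroup (Fin 2) k => A.1 0 0) h
  apply Units.ext
  exact h1

section Main

variable [IsAlgClosed k] (hk : LocFin k) (r : ℕ) [Fact r.Prime] [CharP k r]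
  {F : Type u} [Field F] [Finite F] (f : F →+* k) {n : ℕ} (hn0 : 0 < n) (hn : Nat.card F = r ^ n)
  {d : ℕ} {B : Fin l → Fin l → ℤ} (hB : Cfsg.Agent.BpExc.FamExt.InvC D l d B) (hd : d ≠ 0)

include hk in
/-- the twisted Frobenius on a root `SL₂` -/
theorem exists_psi {v w : W} {i : Fin l} {g : ↥(D.group k)} (hg : Rp cs (nsysL hp cs hk r) w g)
    (hwa : rep cs hp.isCartan w (rep cs hp.isCartan v (sr i)) = rep cs hp.isCartan v (sr i)) {n : ℕ} (hn0 : 0 < n) :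
    ∃ (κ : ↥(D.group k)) (φ : Matrix.SpecialLinearGroup (Fin 2) k →* ↥(D.group k)) (s₀ : kˣ),
      (∀ c : kˣ, φ (dg c) = hc hp i (c : k)) ∧ (∀ s : k, φ (sx s) = xc hp (sr i) s) ∧
      (∀ s : k, κ * φ (sx s) * κ⁻¹ ∈ XX D l k (rep cs hp.isCartan v (sr i))) ∧
      (∀ s : k, κ * φ (sy s) * κ⁻¹ ∈ XX D l k (-rep cs hp.isCartan v (sr i))) ∧
      (∀ s : k, tau D k r n g (κ * φ (sx ((s₀ : k) * s)) * κ⁻¹) = κ * φ (sx ((s₀ : k) * s ^ r ^ n)) * κ⁻¹) ∧
      (∀ s : k, tau D k r n g (κ * φ (sy ((s₀ : k)⁻¹ * s)) * κ⁻¹) = κ * φ (sy ((s₀ : k)⁻¹ * s ^ r ^ n)) * κ⁻¹) := by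
  have C := coordsL hp cs hk r
  have hi := isRoot_sr cs hp.isCartan i
  have hni : IsRoot cs hp.isCartan (-sr i) := hi.neg
  obtain ⟨a, ha'⟩ : ∃ a, a = rep cs hp.isCartan v (sr i) := ⟨_, rfl⟩
  have ha : IsRoot cs hp.isCartan a := ha' ▸ hi.act v
  have hna : IsRoot cs hp.isCartan (-a) := ha.neg
  rw [← ha'] at hwa ⊢
  have hwna : rep cs hp.isCartan w (-a) = -a := by rw [map_neg, hwa]
  obtain ⟨φ, h1, h2, h3⟩ := exists_sl2 hp k (r := D.simple i) (simple_lt hp.inList (lt_rank hp i))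
  have hx : ∀ s, φ (sx s) = xc hp (sr i) s := fun s => by rw [h1, zz_simple]
  have hy : ∀ s, φ (sy s) = xc hp (-sr i) s := fun s => by rw [h2, zz_neg_simple]
  obtain ⟨κ, hκ⟩ := exists_rp cs (nsysL hp cs hk r) v
  obtain ⟨c₁, hc₁, e₁⟩ := x_rp C _ hκ hi
  obtain ⟨c₂, hc₂, e₂⟩ := x_rp C _ hκ hni
  rw [← ha'] at e₁
  rw [map_neg, ← ha'] at e₂
  obtain ⟨c, hc, e⟩ := tau_x hp cs hk r (n := n) hg ha hwa
  obtain ⟨c', hc', e'⟩ := tau_x hp cs hk r (n := n) hg hna hwna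
  -- the scalars
  obtain ⟨γ, hγ'⟩ : ∃ γ, γ = c₁⁻¹ * (c * c₁ ^ r ^ n) := ⟨_, rfl⟩
  obtain ⟨γ', hγ''⟩ : ∃ γ', γ' = c₂⁻¹ * (c' * c₂ ^ r ^ n) := ⟨_, rfl⟩
  have hγ : γ ≠ 0 := by rw [hγ']; exact mul_ne_zero (inv_ne_zero hc₁) (mul_ne_zero hc (pow_ne_zero _ hc₁))
  have t1 : ∀ s, tau D k r n g (κ * φ (sx s) * κ⁻¹) = κ * φ (sx (γ * s ^ r ^ n)) * κ⁻¹ := by
    intro s
    rw [hx, hx, e₁, e₁, e]
    congr 1
    rw [hγ', mul_pow, ← mul_assoc c₁, ← mul_assoc c₁, mul_inv_cancel₀ hc₁]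
    ring
  have t2 : ∀ s, tau D k r n g (κ * φ (sy s) * κ⁻¹) = κ * φ (sy (γ' * s ^ r ^ n)) * κ⁻¹ := by
    intro s
    rw [hy, hy, e₂, e₂, e']
    congr 1
    rw [hγ'', mul_pow, ← mul_assoc c₂, ← mul_assoc c₂, mul_inv_cancel₀ hc₂]
    ring
  have hq : 1 < r ^ n := Nat.one_lt_pow hn0.ne' (Fact.out (p := r.Prime)).one_lt
  obtain ⟨s₁, hs₁⟩ := IsAlgClosed.exists_pow_nat_eq γ⁻¹ (Nat.sub_pos_of_lt hq)
  have hs0 : s₁ ≠ 0 := by
    rintro rfl
    rw [zero_pow (Nat.sub_pos_of_lt hq).ne'] at hs₁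
    exact inv_ne_zero hγ hs₁.symm
  have hsq : γ * s₁ ^ r ^ n = s₁ := by
    have h5 : s₁ ^ r ^ n = s₁ ^ (r ^ n - 1) * s₁ := by
      rw [← pow_succ]
      congr 1
      omega
    rw [h5, hs₁, mul_inv_cancel_left₀ hγ]
  -- the fixed pair
  have hfu : tau D k r n g (κ * φ (sx s₁) * κ⁻¹) = κ * φ (sx s₁) * κ⁻¹ := by rw [t1, hsq]
  have hu : κ * φ (sx s₁) * κ⁻¹ ∈ XX D l k a := by
    rw [hx, e₁, (C.coord _ ha).mem]
    exact ⟨_, rfl⟩
  have hv : κ * φ (sy (-s₁⁻¹)) * κ⁻¹ ∈ XX D l k (-a) := by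
    rw [hy, e₂, (C.coord _ hna).mem]
    exact ⟨_, rfl⟩
  have hA : ∀ {b : Fin l → ℤ} (_ : IsRoot cs hp.isCartan b) (y : ↥(D.group k)),
      κ * y * κ⁻¹ ∈ XX D l k (rep cs hp.isCartan v b) ↔ y ∈ XX D l k b := by
    intro b hb y
    obtain ⟨c, hc, e⟩ := x_rp C _ hκ hb
    rw [(C.coord _ (hb.act v)).mem, (C.coord _ hb).mem]
    constructor
    · rintro ⟨s, hs⟩
      refine ⟨c⁻¹ * s, ?_⟩
      have h1 := e (c⁻¹ * s)
      rw [mul_inv_cancel_left₀ hc, hs] at h1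
      exact mul_left_cancel (mul_right_cancel h1)
    · rintro ⟨s, rfl⟩
      exact ⟨_, (e s).symm⟩
  have hS : Swap (XX D l k a) (XX D l k (-a))
      (κ * φ (sx s₁) * κ⁻¹ * (κ * φ (sy (-s₁⁻¹)) * κ⁻¹) * (κ * φ (sx s₁) * κ⁻¹)) := by
    have h5 := (swap_simple hp i hs0).conj (A' := XX D l k a) (B' := XX D l k (-a)) (κ := κ)
      (by rw [ha']; exact hA hi) (by rw [ha', ← map_neg]; exact hA hni)
    rw [← hx, ← hy] at h5
    have e6 : κ * φ (sx s₁) * κ⁻¹ * (κ * φ (sy (-s₁⁻¹)) * κ⁻¹) * (κ * φ (sx s₁) * κ⁻¹) =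
        κ * (φ (sx s₁) * φ (sy (-s₁⁻¹)) * φ (sx s₁)) * κ⁻¹ := by group
    rw [e6]
    exact h5
  have hfv := hS.fix hu hv (tau_surjective r) (tau_X hp cs hk r hg ha hwa)
    (fun y hy => (tau_X hp cs hk r hg hna hwna y).2 hy) hfu
  -- `γ' = γ⁻¹` in the form needed
  have hneg : ∀ s : k, (-s) ^ r ^ n = -(s ^ r ^ n) := by
    intro s
    have := map_neg (iterateFrobenius k r n) s
    simpa only [iterateFrobenius_def] using this
  have hγ2 : γ' * (s₁⁻¹) ^ r ^ n = s₁⁻¹ := by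
    rw [t2, hy, hy, e₂, e₂] at hfv
    have h6 := (C.coord _ hna).inj hfv
    have h7 := mul_left_cancel₀ hc₂ h6
    rw [hneg, mul_neg, _root_.neg_inj] at h7
    exact h7
  refine ⟨κ, φ, Units.mk0 s₁ hs0, fun c => by rw [h3]; rfl, hx, ?_, ?_, ?_, ?_⟩
  · intro s
    rw [hx, e₁, (C.coord _ ha).mem]
    exact ⟨_, rfl⟩
  · intro s
    rw [hy, e₂, (C.coord _ hna).mem]
    exact ⟨_, rfl⟩
  · intro s
    rw [t1, Units.val_mk0, mul_pow, ← mul_assoc, hsq]
  · intro s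
    rw [t2, Units.val_mk0, mul_pow, ← mul_assoc, hγ2]

include hk hn0 hn hB hd f in
theorem exists_sl_aux {v w : W} {i : Fin l}
    (hwa : rep cs hp.isCartan w (rep cs hp.isCartan v (sr i)) = rep cs hp.isCartan v (sr i))
    {ℓ : ℕ} (hℓ : ℓ.Prime) (hℓq : ¬ ℓ ∣ Nat.card F - 1)
    (hy : ∃ y : Multiplicative (Co (rep cs hp.isCartan w - ((Nat.card F : ℕ) : ℤ) •
      (1 : Module.End ℤ (Fin l → ℤ)))), orderOf y = ℓ) :
    ∃ (x : ↥(D.group F)) (Ψ : Matrix.SpecialLinearGroup (Fin 2) F →* ↥(D.group F)) (P : ↥(D.group k))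
      (φ : Matrix.SpecialLinearGroup (Fin 2) k →* ↥(D.group k)) (Q : Matrix.SpecialLinearGroup (Fin 2) k),
      orderOf x = ℓ ∧ (∀ A, Commute x (Ψ A)) ∧ (∀ c : kˣ, φ (dg c) = hc hp i (c : k)) ∧
      (∀ s : k, φ (sx s) = xc hp (sr i) s) ∧ ∀ A, emb hp.inList f (Ψ A) = P * φ (Q * Matrix.SpecialLinearGroup.map f A * Q⁻¹) * P⁻¹ := by
  have : Fintype F := Fintype.ofFinite F
  have hcop : ∀ m : ℕ, m.Coprime (Nat.card F - 1) → m.Coprime (Nat.gcd d (Nat.card F - 1)) := fun m hm =>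
    Nat.Coprime.coprime_dvd_right (Nat.gcd_dvd_right _ _) hm
  have hℓc : ℓ.Coprime (Nat.card F - 1) := (Nat.Prime.coprime_iff_not_dvd hℓ).2 hℓq
  have hrp : r.Prime := Fact.out
  have hrc : r.Coprime (Nat.card F - 1) := by
    rw [Nat.Prime.coprime_iff_not_dvd hrp]
    intro h1
    have h2 : r ∣ Nat.card F := by rw [hn]; exact dvd_pow_self _ hn0.ne'
    have h3 : 1 ≤ Nat.card F := Nat.card_pos
    have h4 : r ∣ 1 := by
      have := (Nat.dvd_sub h2 h1)
      have e : Nat.card F - (Nat.card F - 1) = 1 := by omega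
      rwa [e] at this
    exact hrp.one_lt.ne' (Nat.dvd_one.1 h4)
  have hinj := emb_injective hp.inList f
  rw [hn] at hy
  obtain ⟨g, hg⟩ := exists_rp cs (nsysL hp cs hk r) w
  obtain ⟨z, hz⟩ := lang' hp r hn0 g
  obtain ⟨e, he⟩ := twEquiv hp cs r hk hB hd hg (m := n)
  obtain ⟨e'⟩ := kerOf_equiv k (det_rep_ne_zero cs r hn0 hp.isCartan w)
  obtain ⟨y, hy⟩ := hy
  -- the torus element
  obtain ⟨t, ht⟩ : ∃ t : ↥(TwT D k r n g), t = e.symm (e'.symm y) := ⟨_, rfl⟩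
  have hto : orderOf t = ℓ := by
    rw [ht, MulEquiv.orderOf_eq, MulEquiv.orderOf_eq, hy]
  have hto' : orderOf t.1 = ℓ := by rw [Subgroup.orderOf_coe, hto]
  have htT : t.1 ∈ TT D k := t.2.1
  have htau : tau D k r n g t.1 = t.1 := t.2.2
  have htℓ : t.1 ^ ℓ = 1 := by rw [← hto']; exact pow_orderOf_eq_one _
  have hχK := (mem_TwT_iff hp cs r hk hg htT).1 t.2
  have hχℓ : tchar hp ⟨t.1, htT⟩ ^ ℓ = 1 := H378.Regular.tchar_pow_eq_one hp htT htℓ
  obtain ⟨a, ha'⟩ : ∃ a, a = rep cs hp.isCartan v (sr i) := ⟨_, rfl⟩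
  have ha : IsRoot cs hp.isCartan a := ha' ▸ (isRoot_sr cs hp.isCartan i).act v
  have hna : IsRoot cs hp.isCartan (-a) := ha.neg
  obtain ⟨κ, φ, s₀, hφd, hφs, hφx, hφy, hτx, hτy⟩ := exists_psi hp cs hk r hg hwa hn0
  rw [← ha'] at hwa hφx hφy
  have hwna : rep cs hp.isCartan w (-a) = -a := by rw [map_neg, hwa]
  have hℓn : ℓ.Coprime (r ^ n - 1) := by rw [← hn]; exact hℓc
  have hca := chi_eq_one (k := k) hp cs r hχK hwa hχℓ hℓn
  have hcna := chi_eq_one (k := k) hp cs r hχK hwna hχℓ hℓn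
  have htx : ∀ s, t.1 * (κ * φ (sx s) * κ⁻¹) = κ * φ (sx s) * κ⁻¹ * t.1 := fun s =>
    comm_X hp cs hk r htT ha hca (hφx s)
  have hty : ∀ s, t.1 * (κ * φ (sy s) * κ⁻¹) = κ * φ (sy s) * κ⁻¹ * t.1 := fun s =>
    comm_X hp cs hk r htT hna hcna (hφy s)
  -- the square root
  obtain ⟨d₀, hd₀⟩ := IsAlgClosed.exists_pow_nat_eq (s₀ : k) (n := 2) (by norm_num)
  have hd0 : d₀ ≠ 0 := by
    rintro rfl
    rw [zero_pow (by norm_num)] at hd₀
    exact s₀.ne_zero hd₀.symm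
  obtain ⟨Q, hQ⟩ : ∃ Q : Matrix.SpecialLinearGroup (Fin 2) k, Q = dg (Units.mk0 d₀ hd0) := ⟨_, rfl⟩
  have hQx : ∀ s : F, Q * Matrix.SpecialLinearGroup.map f (sx s) * Q⁻¹ = sx ((s₀ : k) * f s) := by
    intro s
    rw [hQ, map_sx, sx_conj, Units.val_mk0, hd₀]
  have hQy : ∀ s : F, Q * Matrix.SpecialLinearGroup.map f (sy s) * Q⁻¹ = sy ((s₀ : k)⁻¹ * f s) := by
    intro s
    rw [hQ, map_sy, sy_conj, Units.val_mk0, inv_pow, hd₀]
  have hfq : ∀ s : F, f s ^ r ^ n = f s := by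
    intro s
    rw [← map_pow, ← hn, Nat.card_eq_fintype_card, FiniteField.pow_card]
  -- the homomorphism into `D.group k`
  let θ : Matrix.SpecialLinearGroup (Fin 2) F →* ↥(D.group k) :=
    (MulAut.conj (z * κ)).toMonoidHom.comp
      (φ.comp ((MulAut.conj Q).toMonoidHom.comp (Matrix.SpecialLinearGroup.map f)))
  have hθ : ∀ A, θ A = z * κ * φ (Q * Matrix.SpecialLinearGroup.map f A * Q⁻¹) * (z * κ)⁻¹ := fun A => rfl
  have hcp : ∀ (y : ↥(D.group k)) (j : ℕ), (z * y * z⁻¹) ^ j = z * y ^ j * z⁻¹ := fun y j => conj_pow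
  have hxr : ∀ s : k, (κ * φ (sx s) * κ⁻¹) ^ r = 1 := fun s => X_pow hp cs r ha (hφx s)
  have hyr : ∀ s : k, (κ * φ (sy s) * κ⁻¹) ^ r = 1 := fun s => X_pow hp cs r hna (hφy s)
  have hrange : ∀ A, θ A ∈ (emb hp.inList f).range := by
    intro A
    have hmem : A ∈ ((emb hp.inList f).range).comap θ := by
      apply sl_mem
      · intro s
        rw [Subgroup.mem_comap, hθ, hQx]
        have e1 : z * κ * φ (sx ((s₀ : k) * f s)) * (z * κ)⁻¹ = z * (κ * φ (sx ((s₀ : k) * f s)) * κ⁻¹) * z⁻¹ := by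
          group
        rw [e1]
        refine mem_of_pow hp f r hn hB hd (fix_of_tau r hz ?_) (m := r) (by rw [hcp, hxr]; group) (hcop _ hrc)
        rw [hτx, hfq]
      · intro s
        rw [Subgroup.mem_comap, hθ, hQy]
        have e1 : z * κ * φ (sy ((s₀ : k)⁻¹ * f s)) * (z * κ)⁻¹ =
            z * (κ * φ (sy ((s₀ : k)⁻¹ * f s)) * κ⁻¹) * z⁻¹ := by
          group
        rw [e1]
        refine mem_of_pow hp f r hn hB hd (fix_of_tau r hz ?_) (m := r) (by rw [hcp, hyr]; group) (hcop _ hrc)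
        rw [hτy, hfq]
    exact hmem
  let Ψ : Matrix.SpecialLinearGroup (Fin 2) F →* ↥(D.group F) :=
    (MonoidHom.ofInjective hinj).symm.toMonoidHom.comp (θ.codRestrict _ hrange)
  have hΨ : ∀ A, emb hp.inList f (Ψ A) = θ A := by
    intro A
    have h1 := MonoidHom.apply_ofInjective_symm hinj (θ.codRestrict (emb hp.inList f).range hrange A)
    exact h1
  -- the torus element of the finite group
  obtain ⟨x, hx⟩ := mem_of_pow hp f r hn hB hd (fix_of_tau r hz htau) (m := ℓ)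
    (by rw [hcp, htℓ]; group) (hcop _ hℓc)
  have hco : ∀ y : ↥(D.group k), orderOf (z * y * z⁻¹) = orderOf y := fun y => by
    have h1 : z * y * z⁻¹ = MulAut.conj z y := rfl
    rw [h1, MulEquiv.orderOf_eq]
  have hor : ∀ y : ↥(D.group F), orderOf (emb hp.inList f y) = orderOf y := fun y => orderOf_injective _ hinj y
  refine ⟨x, Ψ, z * κ, φ, Q, ?_, ?_, hφd, hφs, fun A => by rw [hΨ, hθ]⟩
  · rw [← hor, hx, hco, hto']
  · intro A
    have hmem : A ∈ (Subgroup.centralizer ({x} : Set ↥(D.group F))).comap Ψ := by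
      apply sl_mem
      · intro s
        rw [Subgroup.mem_comap, Subgroup.mem_centralizer_singleton_iff]
        apply hinj
        have hm1 : emb hp.inList f (Ψ (sx s) * x) = emb hp.inList f (Ψ (sx s)) * emb hp.inList f x := map_mul _ _ _
        have hm2 : emb hp.inList f (x * Ψ (sx s)) = emb hp.inList f x * emb hp.inList f (Ψ (sx s)) := map_mul _ _ _
        rw [hm1, hm2, hΨ, hθ, hQx, hx]
        have h2 := htx ((s₀ : k) * f s)
        calc z * κ * φ (sx ((s₀ : k) * f s)) * (z * κ)⁻¹ * (z * t.1 * z⁻¹) =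
              z * (κ * φ (sx ((s₀ : k) * f s)) * κ⁻¹ * t.1) * z⁻¹ := by group
          _ = z * (t.1 * (κ * φ (sx ((s₀ : k) * f s)) * κ⁻¹)) * z⁻¹ := by rw [h2]
          _ = _ := by group
      · intro s
        rw [Subgroup.mem_comap, Subgroup.mem_centralizer_singleton_iff]
        apply hinj
        have hm1 : emb hp.inList f (Ψ (sy s) * x) = emb hp.inList f (Ψ (sy s)) * emb hp.inList f x := map_mul _ _ _
        have hm2 : emb hp.inList f (x * Ψ (sy s)) = emb hp.inList f x * emb hp.inList f (Ψ (sy s)) := map_mul _ _ _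
        rw [hm1, hm2, hΨ, hθ, hQy, hx]
        have h2 := hty ((s₀ : k)⁻¹ * f s)
        calc z * κ * φ (sy ((s₀ : k)⁻¹ * f s)) * (z * κ)⁻¹ * (z * t.1 * z⁻¹) =
              z * (κ * φ (sy ((s₀ : k)⁻¹ * f s)) * κ⁻¹ * t.1) * z⁻¹ := by group
          _ = z * (t.1 * (κ * φ (sy ((s₀ : k)⁻¹ * f s)) * κ⁻¹)) * z⁻¹ := by rw [h2]
          _ = _ := by group
    rw [Subgroup.mem_comap, Subgroup.mem_centralizer_singleton_iff] at hmem
    exact hmem.symm

include cs hk hn0 hn in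
/-- **the orders of the elements of a root `SL₂(F)`** -/
theorem exists_elt {i : Fin l} (hv : ∃ v : Fin l → ℤ, pairing (cartanOf D l) i v = 1 ∨ pairing (cartanOf D l) i v = -1)
    {Ψ : Matrix.SpecialLinearGroup (Fin 2) F →* ↥(D.group F)} {P : ↥(D.group k)}
    {φ : Matrix.SpecialLinearGroup (Fin 2) k →* ↥(D.group k)} {Q : Matrix.SpecialLinearGroup (Fin 2) k}
    (hφ : ∀ c : kˣ, φ (dg c) = hc hp i (c : k)) (hφx : ∀ s : k, φ (sx s) = xc hp (sr i) s)
    (hΨ : ∀ A, emb hp.inList f (Ψ A) = P * φ (Q * Matrix.SpecialLinearGroup.map f A * Q⁻¹) * P⁻¹) {m : ℕ}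
    (hm : m = r ∨ m ∣ Nat.card F - 1 ∨ m ∣ Nat.card F + 1) : ∃ A, orderOf (Ψ A) = m := by
  classical
  have : Fintype F := Fintype.ofFinite F
  obtain ⟨v, hv⟩ := hv
  have hinj := emb_injective hp.inList f
  have hor : ∀ A, orderOf (Ψ A) = orderOf (φ (Matrix.SpecialLinearGroup.map f A)) := by
    intro A
    rw [← orderOf_injective _ hinj, hΨ, orderOf_conj', map_mul, map_mul, map_inv, orderOf_conj']
  have hq2 : 2 ≤ Nat.card F := Finite.one_lt_card
  -- divisors of `q - 1`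
  have key1 : ∀ m : ℕ, m ∣ Nat.card F - 1 → ∃ A, orderOf (Ψ A) = m := by
    intro m hm
    obtain ⟨c, hc⟩ := hm
    obtain ⟨ζ, hζ⟩ := IsCyclic.exists_generator (α := Fˣ)
    have hζo : orderOf ζ = Nat.card F - 1 := by
      rw [orderOf_eq_card_of_forall_mem_zpowers hζ, Nat.card_units]
    have hc0 : c ≠ 0 := by
      rintro rfl
      omega
    have ho : orderOf (ζ ^ c) = m := by
      rw [orderOf_pow_of_dvd hc0 (by rw [hζo, hc]; exact Dvd.intro_left m rfl), hζo, hc]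
      exact Nat.mul_div_cancel _ (Nat.pos_of_ne_zero hc0)
    refine ⟨dg (ζ ^ c), ?_⟩
    have e1 : Matrix.SpecialLinearGroup.map f (dg (ζ ^ c)) = dg (Units.map f.toMonoidHom (ζ ^ c)) := by
      apply Subtype.ext
      show (!![((ζ ^ c : Fˣ) : F), 0; 0, ((ζ ^ c : Fˣ) : F)⁻¹] : Matrix (Fin 2) (Fin 2) F).map f =
        !![f ((ζ ^ c : Fˣ) : F), 0; 0, (f ((ζ ^ c : Fˣ) : F))⁻¹]
      ext a b
      fin_cases a <;> fin_cases b <;> simp
    rw [hor, e1, hφ, orderOf_hc hp hv, orderOf_injective _ (Units.map_injective f.injective), ho]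
  rcases hm with rfl | hm | hm
  · refine ⟨sx 1, ?_⟩
    have C := coordsL hp cs hk m
    have hi := isRoot_sr cs hp.isCartan i
    rw [hor, map_sx, map_one, hφx]
    refine orderOf_eq_prime (X_pow hp cs m hi ?_) ?_
    · rw [(C.coord _ hi).mem]
      exact ⟨_, rfl⟩
    · exact (C.coord _ hi).ne_one one_ne_zero
  · exact key1 m hm
  · by_cases h3 : 3 ≤ m
    · -- the nonsplit torus
      have hrm : ¬ r ∣ m := by
        intro h1
        have h2 : r ∣ Nat.card F := by rw [hn]; exact dvd_pow_self _ hn0.ne'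
        have h4 := (Nat.dvd_add_right h2).1 (h1.trans hm)
        exact (Fact.out (p := r.Prime)).one_lt.ne' (Nat.dvd_one.1 h4)
      have hm0 : NeZero (m : k) := ⟨fun h1 => hrm ((CharP.cast_eq_zero_iff k r m).1 h1)⟩
      have hmN : NeZero m := ⟨by omega⟩
      obtain ⟨ζ₀, hζ₀⟩ := HasEnoughRootsOfUnity.exists_primitiveRoot k m
      have hz0 : ζ₀ ≠ 0 := hζ₀.ne_zero (by omega)
      obtain ⟨ζ, hζ⟩ : ∃ ζ : kˣ, ζ = Units.mk0 ζ₀ hz0 := ⟨_, rfl⟩
      have hζv : (ζ : k) = ζ₀ := by rw [hζ]; rfl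
      have hζo : orderOf ζ = m := by
        rw [← orderOf_units, hζv]
        exact hζ₀.eq_orderOf.symm
      -- `ζ ^ q = ζ⁻¹`
      have hζq : ζ ^ Nat.card F = ζ⁻¹ := by
        rw [eq_inv_iff_mul_eq_one, ← pow_succ, ← orderOf_dvd_iff_pow_eq_one, hζo]
        exact hm
      have hζq' : (ζ : k) ^ Nat.card F = (ζ : k)⁻¹ := by
        have := congrArg (fun a : kˣ => (a : k)) hζq
        simpa using this
      -- the trace is in `F`
      have htr : ((ζ : k) + (ζ : k)⁻¹) ^ Nat.card F = (ζ : k) + (ζ : k)⁻¹ := by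
        have h5 : ((ζ : k) + (ζ : k)⁻¹) ^ r ^ n = (ζ : k) ^ r ^ n + ((ζ : k)⁻¹) ^ r ^ n := by
          have := map_add (iterateFrobenius k r n) (ζ : k) (ζ : k)⁻¹
          simpa only [iterateFrobenius_def] using this
        rw [hn, h5, ← hn, inv_pow, hζq', inv_inv, add_comm]
      obtain ⟨t, ht⟩ : ∃ t : F, f t = (ζ : k) + (ζ : k)⁻¹ := by
        have hroots : (Polynomial.X ^ Nat.card F - Polynomial.X : Polynomial k).roots.toFinset =
            Finset.univ.image f := by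
          apply Finset.eq_of_superset_of_card_ge
          · intro a ha
            obtain ⟨b, -, rfl⟩ := Finset.mem_image.1 ha
            rw [Multiset.mem_toFinset, Polynomial.mem_roots (FiniteField.X_pow_card_sub_X_ne_zero k hq2)]
            simp only [Polynomial.IsRoot.def, Polynomial.eval_sub, Polynomial.eval_pow, Polynomial.eval_X]
            rw [← map_pow, Nat.card_eq_fintype_card, FiniteField.pow_card, sub_self]
          · rw [Finset.card_image_of_injective _ f.injective, Finset.card_univ, ← Nat.card_eq_fintype_card]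
            refine (Multiset.toFinset_card_le _).trans ((Polynomial.card_roots' _).trans ?_)
            rw [FiniteField.X_pow_card_sub_X_natDegree_eq k hq2]
        have h6 : (ζ : k) + (ζ : k)⁻¹ ∈ Finset.univ.image f := by
          rw [← hroots, Multiset.mem_toFinset, Polynomial.mem_roots (FiniteField.X_pow_card_sub_X_ne_zero k hq2)]
          simp only [Polynomial.IsRoot.def, Polynomial.eval_sub, Polynomial.eval_pow, Polynomial.eval_X]
          rw [htr, sub_self]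
        obtain ⟨b, -, hb⟩ := Finset.mem_image.1 h6
        exact ⟨b, hb⟩
      have hne : (ζ : k) ≠ (ζ : k)⁻¹ := by
        intro h5
        have h6 : ζ ^ 2 = 1 := by
          apply Units.ext
          rw [Units.val_pow_eq_pow_val, Units.val_one, pow_two]
          nth_rw 2 [h5]
          exact mul_inv_cancel₀ ζ.ne_zero
        have h7 := orderOf_dvd_of_pow_eq_one h6
        rw [hζo] at h7
        have := Nat.le_of_dvd (by norm_num) h7
        omega
      obtain ⟨A, R, hA⟩ := exists_diag f hne ht.symm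
      refine ⟨A, ?_⟩
      rw [hor, hA, map_mul, map_mul, map_inv, orderOf_conj', hφ, orderOf_hc hp hv, hζo]
    · -- `m = 1, 2`
      have hm0 : m ≠ 0 := by
        rintro rfl
        have := Nat.eq_zero_of_zero_dvd hm
        omega
      have h12 : m = 1 ∨ m = 2 := by omega
      rcases h12 with rfl | rfl
      · exact key1 1 (one_dvd _)
      · exact key1 2 (by omega)

end Main

/-! ### the finite group -/

/-- **A torus element commuting with elements of a root `SL₂(q)`** -/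
theorem exists_comm_sl {d : ℕ} {B : Fin l → Fin l → ℤ} (hB : Cfsg.Agent.BpExc.FamExt.InvC D l d B) (hd : d ≠ 0)
    (hpair : ∀ i : Fin l, ∃ v : Fin l → ℤ, pairing (cartanOf D l) i v = 1 ∨ pairing (cartanOf D l) i v = -1)
    {F : Type u} [Field F] [Finite F]
    {w : W} {a : Fin l → ℤ} (ha : IsRoot cs hp.isCartan a) (hwa : rep cs hp.isCartan w a = a)
    {ℓ : ℕ} (hℓ : ℓ.Prime) (hℓq : ¬ ℓ ∣ Nat.card F - 1)
    (hy : ∃ y : Multiplicative (Co (rep cs hp.isCartan w - ((Nat.card F : ℕ) : ℤ) •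
      (1 : Module.End ℤ (Fin l → ℤ)))), orderOf y = ℓ) {p : ℕ} [Fact p.Prime] [CharP F p] :
    ∃ x : ↥(D.group F), orderOf x = ℓ ∧ ∀ m : ℕ, (m = p ∨ m ∣ Nat.card F - 1 ∨ m ∣ Nat.card F + 1) →
      ∃ y : ↥(D.group F), orderOf y = m ∧ Commute x y := by
  obtain ⟨k, _, _, f, r, _, hc, n, hk, -, hn0, hn⟩ := exists_closure F
  have hrp : r = p := by
    have := charP_of_injective_ringHom f.injective p
    exact CharP.eq k hc this
  obtain ⟨v, i, rfl⟩ := ha
  obtain ⟨x, Ψ, P, φ, Q, hx, hcomm, hφ, hφx, hΨ⟩ := exists_sl_aux hp cs hk r f hn0 hn hB hd hwa hℓ hℓq hy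
  refine ⟨x, hx, fun m hm => ?_⟩
  obtain ⟨A, hA⟩ := exists_elt hp cs hk r f hn0 hn (hpair i) hφ hφx hΨ (m := m) (by rwa [hrp])
  exact ⟨Ψ A, hA, hcomm A⟩

include hp cs in
/-- **the same from a row** -/
theorem exists_row_sl [Finite W] {d : ℕ} {B : Fin l → Fin l → ℤ} (hB : Cfsg.Agent.BpExc.FamExt.InvC D l d B) (hd0 : d ≠ 0)
    (hpair : ∀ i : Fin l, ∃ v : Fin l → ℤ, pairing (cartanOf D l) i v = 1 ∨ pairing (cartanOf D l) i v = -1)
    {A : Cfsg.Agent.H129.WData.Mat l} (hA : ∀ i j, A i j = cartanOf D l i j) {L : List (Fin l × Cfsg.Agent.H129.WData.Mat l)} {r : ℕ}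
    (hr : r < D.nroots)
    {f : ℕ} {c : Fin (f + 1) → ℤ} {V : Fin (f + 1) → Fin l → ℤ} {U : Fin l → ℤ}
    (h : H378.AdjTab.RowOK A L (vec D l r) c V U) {F : Type u} [Field F] [Finite F] {ℓ : ℕ} (hℓ : ℓ.Prime)
    (hℓq : ¬ ℓ ∣ Nat.card F - 1) (hdv : (ℓ : ℤ) ∣ Cfsg.Agent.H493.PGTorus.pv c (Nat.card F : ℕ)) {p : ℕ} [Fact p.Prime] [CharP F p] :
    ∃ x : ↥(D.group F), orderOf x = ℓ ∧ ∀ m : ℕ, (m = p ∨ m ∣ Nat.card F - 1 ∨ m ∣ Nat.card F + 1) →
      ∃ y : ↥(D.group F), orderOf y = m ∧ Commute x y := by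
  obtain ⟨h1, h2, h3⟩ := h
  exact exists_comm_sl hp cs hB hd0 hpair (isRoot_vec hp cs hr) (H378.AdjTab.fixes_of_row hp cs hA h1 h2) hℓ hℓq
    (H378.AdjTab.exists_order_row hp cs hA h1 h3 Finite.one_lt_card hℓ.pos hdv)

theorem emb_zz {F : Type u} [Field F] (f : F →+* k) (r : ℕ) (s : F) :
    emb hp.inList f (zz hp r s) = zz hp r (f s) := by
  apply Subtype.ext
  rw [coe_emb]
  exact glMap_xG hp.inList f r s

include hp in
/-- **An element of the split torus commuting with elements of a root `SL₂(q)`** -/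
theorem exists_split_sl (hpair : ∀ i : Fin l, ∃ v : Fin l → ℤ, pairing (cartanOf D l) i v = 1 ∨
    pairing (cartanOf D l) i v = -1) {i j : Fin l} (hij : D.cartan j (D.simple i) = 0)
    {F : Type u} [Field F] [Finite F] {ℓ : ℕ} (hℓq : ℓ ∣ Nat.card F - 1) {p : ℕ} [Fact p.Prime] [CharP F p] :
    ∃ x : ↥(D.group F), orderOf x = ℓ ∧ ∀ m : ℕ, (m = p ∨ m ∣ Nat.card F - 1 ∨ m ∣ Nat.card F + 1) →
      ∃ y : ↥(D.group F), orderOf y = m ∧ Commute x y := by
  let cs : CoxeterSystem M M.Group := M.toCoxeterSystem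
  obtain ⟨k, _, _, f, r, _, hchk, n, hk, -, hn0, hn⟩ := exists_closure F
  have hrp : r = p := by
    have := charP_of_injective_ringHom f.injective p
    exact CharP.eq k hchk this
  subst hrp
  have hchF : CharP F r := inferInstance
  have hkF := H378.SmallTor.locFin_of_finite F
  have C := coordsL hp cs hkF r
  have hi := simple_lt hp.inList (lt_rank hp i)
  obtain ⟨Ψ, h1, h2, h3⟩ := exists_sl2 hp F hi
  obtain ⟨φ, h1', h2', h3'⟩ := exists_sl2 hp k hi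
  have hcomp : ∀ A, emb hp.inList f (Ψ A) = φ (Matrix.SpecialLinearGroup.map f A) := by
    intro A
    have hA : A ∈ MonoidHom.eqLocus ((emb hp.inList f).comp Ψ) (φ.comp (Matrix.SpecialLinearGroup.map f)) := by
      apply sl_mem
      · intro s
        show emb hp.inList f (Ψ (sx s)) = φ (Matrix.SpecialLinearGroup.map f (sx s))
        rw [h1, map_sx, h1', emb_zz]
      · intro s
        show emb hp.inList f (Ψ (sy s)) = φ (Matrix.SpecialLinearGroup.map f (sy s))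
        rw [h2, map_sy, h2', emb_zz]
    exact hA
  -- the element
  obtain ⟨c, hcq⟩ := hℓq
  have hq2 : 2 ≤ Nat.card F := Finite.one_lt_card
  obtain ⟨ζ, hζ⟩ := IsCyclic.exists_generator (α := Fˣ)
  have hζo : orderOf ζ = Nat.card F - 1 := by
    rw [orderOf_eq_card_of_forall_mem_zpowers hζ, Nat.card_units]
  have hc0 : c ≠ 0 := by
    rintro rfl
    omega
  have ho : orderOf (ζ ^ c) = ℓ := by
    rw [orderOf_pow_of_dvd hc0 (by rw [hζo, hcq]; exact Dvd.intro_left ℓ rfl), hζo, hcq]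
    exact Nat.mul_div_cancel _ (Nat.pos_of_ne_zero hc0)
  obtain ⟨η, hη⟩ : ∃ η, η = ζ ^ c := ⟨_, rfl⟩
  rw [← hη] at ho
  obtain ⟨v, hv⟩ := hpair j
  have hT := hc_mem hp j η.ne_zero
  have hri : IsRoot cs hp.isCartan (sr i) := isRoot_sr cs hp.isCartan i
  refine ⟨hc hp j (η : F), by rw [orderOf_hc hp hv, ho], fun m hm => ?_⟩
  obtain ⟨A, hA⟩ := exists_elt hp cs hk r f hn0 hn (hpair i) (Ψ := Ψ) (P := 1) (φ := φ) (Q := 1) (m := m)
    (fun c => h3' c) (fun s => by rw [h1', zz_simple]) (fun A => by rw [hcomp]; group) hm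
  refine ⟨Ψ A, hA, ?_⟩
  have hmem : A ∈ (Subgroup.centralizer ({hc hp j (η : F)} : Set ↥(D.group F))).comap Ψ := by
    apply sl_mem
    · intro s
      rw [Subgroup.mem_comap, Subgroup.mem_centralizer_singleton_iff, h1, zz_simple]
      have h5 := (C.coord _ hri).act _ hT s
      have h6 : ch hp (sr i) (hc hp j (η : F)) = 1 := by
        rw [← vec_simple hp i, ch_hc hp j η.ne_zero hi, hij, zpow_zero]
      rw [h6, one_mul] at h5
      exact (mul_inv_eq_iff_eq_mul.1 h5).symm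
    · intro s
      rw [Subgroup.mem_comap, Subgroup.mem_centralizer_singleton_iff, h2, zz_neg_simple]
      have h5 := (C.coord _ hri.neg).act _ hT s
      have h6 : ch hp (-sr i) (hc hp j (η : F)) = 1 := by
        rw [← vec_simple hp i, H378.SmallTor.ch_neg hp hi j η.ne_zero hij]
      rw [h6, one_mul] at h5
      exact (mul_inv_eq_iff_eq_mul.1 h5).symm
  rw [Subgroup.mem_comap, Subgroup.mem_centralizer_singleton_iff] at hmem
  exact hmem.symm

end Cfsg.Agent.H962.RootSL
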